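import Mathlib
import Cfsg.Agent.PERM.FT3Char
import Cfsg.Agent.PERM.CCZass2
import Cfsg.Agent.S0196

/-! Strongly self-centralizing subgroups: group-theoretic facts and counting. -/

set_option autoImplicit false
open Cfsg CL.PF CL.Char Subgroup
open scoped Classical

namespace CL.SCS

variable {G : Type*} [Group G]

/-- `A` is the centralizer of each of its non-identity elements -/
def SSC (A : Subgroup G) : Prop := ∀ a ∈ A, a ≠ 1 → centralizer ({a} : Set G) = A

/-- the conjugates of the non-identity elements of `A` -/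
def X (A : Subgroup G) : Set G := {g | ∃ a ∈ A, a ≠ 1 ∧ IsConj a g}

theorem X_ne_one {A : Subgroup G} {g : G} (h : g ∈ X A) : g ≠ 1 := by
  rintro rfl
  obtain ⟨a, -, h1, hc⟩ := h
  exact h1 (isConj_one_left.1 hc)

theorem X_of_isConj {A : Subgroup G} {g h : G} (hg : g ∈ X A) (hc : IsConj g h) : h ∈ X A := by
  obtain ⟨a, ha, h1, hc'⟩ := hg
  exact ⟨a, ha, h1, hc'.trans hc⟩

theorem X_conj_iff {A : Subgroup G} {g k : G} : k * g * k⁻¹ ∈ X A ↔ g ∈ X A :=
  ⟨fun h => X_of_isConj h (isConj_iff.2 ⟨k, rfl⟩).symm, fun h => X_of_isConj h (isConj_iff.2 ⟨k, rfl⟩)⟩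

theorem conj_ne_one {g : G} (hg : g ≠ 1) (k : G) : k⁻¹ * g * k ≠ 1 := fun e => hg (by
  calc g = k * (k⁻¹ * g * k) * k⁻¹ := by group
    _ = 1 := by rw [e]; group)

theorem mem_X {A : Subgroup G} {a : G} (ha : a ∈ A) (h1 : a ≠ 1) : a ∈ X A :=
  ⟨a, ha, h1, IsConj.refl a⟩

theorem orderOf_dvd_of_mem_X {A : Subgroup G} {g : G} (h : g ∈ X A) : orderOf g ∣ Nat.card A := by
  obtain ⟨a, ha, -, hc⟩ := h
  obtain ⟨k, rfl⟩ := isConj_iff.1 hc
  rw [show k * a * k⁻¹ = MulAut.conj k a from rfl, MulEquiv.orderOf_eq]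
  exact A.orderOf_dvd_natCard ha

namespace SSC
variable {A B : Subgroup G} (hA : SSC A)
include hA

theorem mem_of_comm {a g : G} (ha : a ∈ A) (h1 : a ≠ 1) (h : g * a = a * g) : g ∈ A := by
  rw [← hA a ha h1]; exact mem_centralizer_singleton_iff.2 h

theorem cc : CCZ.CC A := fun _ ha h1 _ h => hA.mem_of_comm ha h1 h

theorem comm {a b : G} (ha : a ∈ A) (hb : b ∈ A) : a * b = b * a := by
  by_cases h1 : b = 1
  · simp [h1]
  · rw [← hA b hb h1] at ha; exact mem_centralizer_singleton_iff.1 ha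

theorem ti {a g : G} (ha : a ∈ A) (h1 : a ≠ 1) (h : g * a * g⁻¹ ∈ A) :
    g ∈ normalizer (A : Set G) := by
  have h1' : g * a * g⁻¹ ≠ 1 := by simpa using h1
  refine mem_normalizer_iff.2 fun b => ⟨fun hb => hA.mem_of_comm h h1' ?_, fun hb => ?_⟩
  · rw [conj_mul, conj_mul, hA.comm hb ha]
  · refine hA.mem_of_comm ha h1 ?_
    have := hA.comm hb h
    rw [conj_mul, conj_mul] at this
    simpa using this

theorem mem_X_of_comm {c g : G} (hc : c ∈ X A) (hg : g ≠ 1) (h : g * c = c * g) : g ∈ X A := by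
  obtain ⟨a, ha, h1, hc'⟩ := hc
  obtain ⟨k, rfl⟩ := isConj_iff.1 hc'
  refine ⟨k⁻¹ * g * k, hA.mem_of_comm ha h1 ?_, conj_ne_one hg k,
    isConj_iff.2 ⟨k, by group⟩⟩
  calc _ = k⁻¹ * (g * (k * a * k⁻¹)) * k := by group
    _ = _ := by rw [h]; group

variable [Finite G]

theorem mem_X_of_prime {p : ℕ} (hp : p.Prime) (hd : p ∣ Nat.card A) {c : G} (hc : orderOf c = p) :
    c ∈ X A := by
  have := Fact.mk hp
  obtain ⟨a, ha⟩ := exists_prime_orderOf_dvd_card' p hd
  have ha' : orderOf (a : G) = p := by rw [orderOf_coe, ha]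
  have hpg : ∀ {x : G}, orderOf x = p → IsPGroup p (zpowers x) := fun hx =>
    IsPGroup.of_card (n := 1) (by rw [Nat.card_zpowers, hx, pow_one])
  obtain ⟨P, hP⟩ := (hpg ha').exists_le_sylow
  obtain ⟨Q, hQ⟩ := (hpg hc).exists_le_sylow
  obtain ⟨k, rfl⟩ := MulAction.exists_smul_eq G P Q
  have a1 : (a : G) ≠ 1 := by
    intro e; rw [e, orderOf_one] at ha'; exact hp.one_lt.ne ha'
  have c1 : c ≠ 1 := by
    intro e; rw [e, orderOf_one] at hc; exact hp.one_lt.ne hc
  have hnt : Nontrivial P := ⟨⟨⟨a, hP (mem_zpowers _)⟩, 1, fun e => a1 (congrArg Subtype.val e)⟩⟩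
  have := P.isPGroup'.center_nontrivial
  obtain ⟨⟨z, hz⟩, hz1⟩ := exists_ne (1 : center P)
  have z1 : (z : G) ≠ 1 := fun e => hz1 (Subtype.ext (Subtype.ext e))
  have hzc : ∀ y ∈ (P : Subgroup G), y * z = z * y := fun y hy =>
    congrArg Subtype.val (mem_center_iff.1 hz ⟨y, hy⟩)
  have hzA : (z : G) ∈ A := hA.mem_of_comm a.2 a1 (hzc _ (hP (mem_zpowers _))).symm
  have hc' := hQ (mem_zpowers c)
  rw [Sylow.coe_subgroup_smul, mem_pointwise_smul_iff_inv_smul_mem] at hc'
  have hc2 : k⁻¹ * c * k ∈ (P : Subgroup G) := by simpa using hc'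
  exact ⟨k⁻¹ * c * k, hA.mem_of_comm hzA z1 (hzc _ hc2), conj_ne_one c1 k,
    isConj_iff.2 ⟨k, by group⟩⟩

theorem coprime_cent {g : G} (h1 : g ≠ 1) (hg : g ∉ X A) :
    (Nat.card (centralizer ({g} : Set G))).Coprime (Nat.card A) := by
  refine Nat.coprime_of_dvd fun p hp hd hd' => hg ?_
  have := Fact.mk hp
  obtain ⟨c, hc⟩ := exists_prime_orderOf_dvd_card' p hd
  exact hA.mem_X_of_comm (hA.mem_X_of_prime hp hd' (by rw [orderOf_coe, hc])) h1
    (mem_centralizer_singleton_iff.1 c.2).symm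

theorem disjoint_X (hB : SSC B) (h : ∀ g : G, A.map (MulAut.conj g).toMonoidHom ≠ B) {g : G}
    (hg : g ∈ X A) : g ∉ X B := by
  rintro ⟨b, hb, b1, hc⟩
  obtain ⟨a, ha, a1, hc'⟩ := hg
  obtain ⟨k, rfl⟩ := isConj_iff.1 (hc'.trans hc.symm)
  refine h k (le_antisymm ?_ fun y hy => ⟨k⁻¹ * y * k, hA.mem_of_comm ha a1 ?_, by simp [mul_assoc]⟩)
  · rintro _ ⟨y, hy, rfl⟩
    refine hB.mem_of_comm hb b1 ?_
    show k * y * k⁻¹ * _ = _ * (k * y * k⁻¹)
    rw [conj_mul, conj_mul, hA.comm hy ha]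
  · calc _ = k⁻¹ * (y * (k * a * k⁻¹)) * k := by group
      _ = _ := by rw [hB.comm hy hb]; group

theorem coprime_card (hB : SSC B) (h : ∀ g : G, A.map (MulAut.conj g).toMonoidHom ≠ B) :
    (Nat.card A).Coprime (Nat.card B) := by
  refine Nat.coprime_of_dvd fun p hp hd hd' => ?_
  have := Fact.mk hp
  obtain ⟨c, hc⟩ := exists_prime_orderOf_dvd_card' p hd
  have hc' : orderOf (c : G) = p := by rw [orderOf_coe, hc]
  exact hA.disjoint_X hB h (hA.mem_X_of_prime hp hd hc') (hB.mem_X_of_prime hp hd' hc')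

theorem mem_of_mem_X {h : G} (hN : h ∈ normalizer (A : Set G)) (hX : h ∈ X A) : h ∈ A := by
  by_contra hn
  have := Nat.eq_one_of_dvd_coprimes (hA.cc.coprime hn hN) dvd_rfl (orderOf_dvd_of_mem_X hX)
  exact X_ne_one hX (orderOf_eq_one_iff.1 this)

theorem relIndex_dvd : A.relIndex (normalizer (A : Set G)) ∣ Nat.card A - 1 :=
  Cfsg.Agent.S0196.result A hA

omit hA in
theorem card_normalizer (A : Subgroup G) :
    Nat.card (normalizer (A : Set G)) = A.relIndex (normalizer (A : Set G)) * Nat.card A := by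
  rw [mul_comm, card_mul_relIndex le_normalizer]

/-- summing a class function over the conjugates of `A^#` -/
theorem sum_X {M : Type*} [AddCommMonoid M] (f : G → M) (hf : ∀ k g, f (k * g * k⁻¹) = f g) :
    Nat.card (normalizer (A : Set G)) • ∑ g ∈ fs (X A), f g =
      Nat.card G • ∑ a ∈ (fs (A : Set G)).erase 1, f a := by
  have := Fintype.ofFinite G
  have h1 : ∑ p ∈ Finset.univ ×ˢ (fs (A : Set G)).erase 1, f (p.1 * p.2 * p.1⁻¹) =
      Nat.card G • ∑ a ∈ (fs (A : Set G)).erase 1, f a := by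
    rw [Finset.sum_product]
    simp only [hf]
    rw [Finset.sum_const, Finset.card_univ, Nat.card_eq_fintype_card]
  rw [← h1, ← Finset.sum_fiberwise_of_maps_to (t := fs (X A)) (g := fun p : G × G => p.1 * p.2 * p.1⁻¹),
    Finset.smul_sum]
  · refine Finset.sum_congr rfl fun g hg => ?_
    rw [Finset.sum_congr rfl (g := fun _ => f g) fun p hp => by rw [(Finset.mem_filter.1 hp).2],
      Finset.sum_const]
    congr 1
    obtain ⟨a, ha, a1, hc⟩ : g ∈ X A := by simpa using hg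
    obtain ⟨k, rfl⟩ := isConj_iff.1 hc
    rw [← card_fs_subgroup]
    refine Finset.card_bij (fun n _ => (k * n, n⁻¹ * a * n)) (fun n hn => ?_) (fun n _ m _ e => ?_)
      fun p hp => ?_
    · have hn' : n ∈ normalizer (A : Set G) := by simpa using hn
      have := (mem_normalizer_iff.1 (inv_mem hn') a).1 ha
      simp only [Finset.mem_filter, Finset.mem_product, Finset.mem_univ, Finset.mem_erase, true_and]
      refine ⟨⟨conj_ne_one a1 n, by simpa using this⟩, by group⟩
    · simpa using congrArg Prod.fst e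
    · simp only [Finset.mem_filter, Finset.mem_product, Finset.mem_univ, Finset.mem_erase,
        true_and] at hp
      obtain ⟨⟨p1, p2⟩, e⟩ := hp
      have e' : (k⁻¹ * p.1) * p.2 * (k⁻¹ * p.1)⁻¹ = a := by
        calc _ = k⁻¹ * (p.1 * p.2 * p.1⁻¹) * k := by group
          _ = _ := by rw [e]; group
      refine ⟨k⁻¹ * p.1, by simpa using hA.ti (by simpa using p2) p1 (e' ▸ ha), Prod.ext (by simp) ?_⟩
      rw [← e']; group
  · intro p hp
    simp only [Finset.mem_product, Finset.mem_univ, Finset.mem_erase, true_and] at hp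
    simpa using X_conj_iff.2 (mem_X (by simpa using hp.2) hp.1)

theorem card_erase : ((fs (A : Set G)).erase 1).card = Nat.card A - 1 := by
  rw [Finset.card_erase_of_mem (by simpa using A.one_mem), card_fs_subgroup]

/-- the sum of a class function constant on `A^#` -/
theorem sum_X_const (f : G → ℤ) (hf : ∀ k g, f (k * g * k⁻¹) = f g) (c : ℤ)
    (hc : ∀ a ∈ A, a ≠ 1 → f a = c) :
    (Nat.card (normalizer (A : Set G)) : ℤ) * ∑ g ∈ fs (X A), f g =
      Nat.card G * ((Nat.card A - 1) * c) := by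
  have h := hA.sum_X f hf
  rw [Finset.sum_congr (s₁ := (fs (A : Set G)).erase 1) rfl (g := fun _ => c) fun a ha => by
    rw [Finset.mem_erase] at ha; exact hc a (by simpa using ha.2) ha.1, Finset.sum_const,
    hA.card_erase] at h
  simp only [nsmul_eq_mul] at h
  rw [h, Nat.cast_sub Nat.card_pos]; simp

theorem card_X : (Nat.card (normalizer (A : Set G)) : ℤ) * (fs (X A)).card =
    Nat.card G * (Nat.card A - 1) := by
  simpa using hA.sum_X_const (fun _ => 1) (fun _ _ => rfl) 1 fun _ _ _ => rfl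

/-- the number of conjugates of `A` is `1` modulo `|A|` -/
theorem index_modEq : ∃ k : ℕ, (normalizer (A : Set G)).index + (Nat.card A - 1) = k * Nat.card A := by
  have := Fintype.ofFinite G
  set N := normalizer (A : Set G)
  have h := MulAction.sum_card_fixedBy_eq_card_orbits_mul_card_group A (G ⧸ N)
  refine ⟨Fintype.card (MulAction.orbitRel.Quotient A (G ⧸ N)), ?_⟩
  rw [Nat.card_eq_fintype_card (α := A), ← h, ← Finset.add_sum_erase _ _ (Finset.mem_univ 1),
    Finset.sum_congr rfl (g := fun _ => 1), Finset.sum_const, Finset.card_erase_of_mem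
      (Finset.mem_univ _), Finset.card_univ, smul_eq_mul, mul_one]
  · congr 1
    rw [index, Nat.card_eq_fintype_card]
    simp
  · intro a ha
    have a1 : (a : G) ≠ 1 := fun e => (Finset.mem_erase.1 ha).1 (Subtype.ext e)
    rw [Fintype.card_eq_one_iff]
    refine ⟨⟨((1 : G) : G ⧸ N), ?_⟩, ?_⟩
    · show (((a : G) * 1 : G) : G ⧸ N) = _
      exact QuotientGroup.eq.2 (by simpa using le_normalizer a.2)
    · rintro ⟨q, hq⟩
      obtain ⟨x, rfl⟩ := QuotientGroup.mk_surjective q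
      have h1 : (((a : G) * x : G) : G ⧸ N) = x := hq
      have h2 : x⁻¹ * a * x⁻¹⁻¹ ∈ N := by
        simpa [mul_assoc] using inv_mem (QuotientGroup.eq.1 h1)
      have h3 := hA.ti a.2 a1 (hA.mem_of_mem_X h2 (X_conj_iff.2 (mem_X a.2 a1)))
      exact Subtype.ext (QuotientGroup.eq.2 (by simpa using h3))

end SSC

end CL.SCS
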