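import Mathlib
import Cfsg.Agent.INV.SCS.Grp

/-! Strongly self-centralizing subgroups: involutions inverting them, products of involutions. -/

set_option autoImplicit false
open Cfsg CL.PF CL.Char CL.Odd Subgroup
open scoped Classical

namespace CL.SCS

variable {G : Type*} [Group G]

/-- `t` is an involution inverting the subgroup `A` of odd order -/
structure Inv (A : Subgroup G) (t : G) : Prop where
  sq : t * t = 1
  ne : t ≠ 1
  inv : ∀ a ∈ A, t * a * t⁻¹ = a⁻¹
  odd : Odd (Nat.card A)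

theorem sq_of_isConj {u s : G} (hu : u * u = 1) (hs : IsConj u s) : s * s = 1 := by
  obtain ⟨g, rfl⟩ := isConj_iff.mp hs
  rw [conj_mul, hu]; simp

theorem ne_of_isConj {u s : G} (hu : u ≠ 1) (hs : IsConj u s) : s ≠ 1 := by
  rintro rfl; exact hu (isConj_one_left.1 hs)

theorem inverts_mul {s s' : G} (hs : s * s = 1) (hs' : s' * s' = 1) :
    s * (s * s') * s⁻¹ = (s * s')⁻¹ := by
  rw [mul_inv_rev, inv_eq_of_mul_eq_one_right hs', ← mul_assoc, hs, one_mul]

theorem eq_one_of_odd {A : Subgroup G} (h : Odd (Nat.card A)) {a : G} (ha : a ∈ A)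
    (h2 : a * a = 1) : a = 1 := by
  have h1 : orderOf a ∣ 2 := orderOf_dvd_of_pow_eq_one (by rw [pow_two, h2])
  exact orderOf_eq_one_iff.1 (Nat.eq_one_of_dvd_coprimes (Nat.coprime_two_left.2 h) h1
    (A.orderOf_dvd_natCard ha))

theorem not_mem_X_of_sq {A : Subgroup G} (h : Odd (Nat.card A)) {u : G} (h2 : u * u = 1) :
    u ∉ X A := fun hu => by
  have h1 : orderOf u ∣ 2 := orderOf_dvd_of_pow_eq_one (by rw [pow_two, h2])
  exact X_ne_one hu (orderOf_eq_one_iff.1 (Nat.eq_one_of_dvd_coprimes (Nat.coprime_two_left.2 h) h1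
    (orderOf_dvd_of_mem_X hu)))

namespace Inv
variable {A : Subgroup G} {t : G} (h : Inv A t)
include h

theorem inv_eq : t⁻¹ = t := inv_eq_of_mul_eq_one_right h.sq

theorem not_mem : t ∉ A := fun ht => h.ne (eq_one_of_odd h.odd ht h.sq)

theorem isConj_mul {a : G} (ha : a ∈ A) : IsConj t (t * a) := by
  obtain ⟨k, hk⟩ := h.odd
  have h1 : a ^ (2 * k + 1) = 1 := by
    rw [← hk]; exact orderOf_dvd_iff_pow_eq_one.1 (A.orderOf_dvd_natCard ha)
  refine isConj_iff.2 ⟨a ^ k, ?_⟩
  have h2 := h.inv _ (A.pow_mem ha k)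
  calc a ^ k * t * (a ^ k)⁻¹ = t * (t⁻¹ * a ^ k * t⁻¹⁻¹) * (a ^ k)⁻¹ := by group
    _ = t * (a ^ (2 * k + 1))⁻¹ * a := by rw [h.inv_eq, h2]; group
    _ = _ := by rw [h1]; simp

end Inv

variable [Finite G]

/-- the number of ways of writing `g` as a product of two conjugates of `t` -/
noncomputable def ff (t g : G) : ℕ := (fs {u | IsConj t u ∧ IsConj t (u⁻¹ * g)}).card

theorem ff_conj (t k g : G) : ff t (k * g * k⁻¹) = ff t g := by
  unfold ff
  refine Finset.card_bij (fun u _ => k⁻¹ * u * k) (fun u hu => ?_) (fun u _ v _ e => by simpa using e)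
    fun u hu => ⟨k * u * k⁻¹, ?_, by group⟩
  · have hu' : IsConj t u ∧ IsConj t (u⁻¹ * (k * g * k⁻¹)) := by simpa using hu
    have : IsConj t (k⁻¹ * u * k) ∧ IsConj t ((k⁻¹ * u * k)⁻¹ * g) :=
      ⟨hu'.1.trans (isConj_iff.2 ⟨k⁻¹, by group⟩), hu'.2.trans (isConj_iff.2 ⟨k⁻¹, by group⟩)⟩
    simpa only [mem_fs, Set.mem_ofPred_eq] using this
  · have hu' : IsConj t u ∧ IsConj t (u⁻¹ * g) := by simpa using hu
    have : IsConj t (k * u * k⁻¹) ∧ IsConj t ((k * u * k⁻¹)⁻¹ * (k * g * k⁻¹)) :=
      ⟨hu'.1.trans (isConj_iff.2 ⟨k, by group⟩), hu'.2.trans (isConj_iff.2 ⟨k, by group⟩)⟩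
    simpa only [mem_fs, Set.mem_ofPred_eq] using this

theorem conv_indic [Fintype G] (t g : G) : conv (indic t) (indic t) g = ff t g := by
  rw [conv_apply, ff, Finset.card_eq_sum_ones, Nat.cast_sum, ← Finset.sum_subset
    (Finset.subset_univ (fs {u | IsConj t u ∧ IsConj t (u⁻¹ * g)}))]
  · refine Finset.sum_congr rfl fun u hu => ?_
    have hu' : IsConj t u ∧ IsConj t (u⁻¹ * g) := by simpa only [mem_fs, Set.mem_ofPred_eq] using hu
    simp only [indic, if_pos hu'.1, if_pos hu'.2]; simp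
  · intro u _ hu
    have hu' : ¬ (IsConj t u ∧ IsConj t (u⁻¹ * g)) := by simpa only [mem_fs, Set.mem_ofPred_eq] using hu
    unfold indic
    split_ifs with h1 h2
    · exact (hu' ⟨h1, h2⟩).elim
    all_goals simp

theorem card_class (t : G) : (fs {u | IsConj t u}).card = (centralizer ({t} : Set G)).index := by
  rw [← card_conj_eq_index, card_fs]; rfl

theorem ff_one {t : G} (ht : t * t = 1) : ff t 1 = (centralizer ({t} : Set G)).index := by
  rw [← card_class, ff]
  congr 2
  ext u
  refine ⟨fun h => h.1, fun h => ⟨h, ?_⟩⟩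
  rw [mul_one, inv_eq_of_mul_eq_one_right (sq_of_isConj ht h)]; exact h

theorem sum_ff [Fintype G] (t : G) : ∑ g, ff t g = (centralizer ({t} : Set G)).index ^ 2 := by
  have h := sum_conv_mul (indic t) (indic t) (fun _ => 1)
  simp only [mul_one, conv_indic] at h
  rw [← Finset.sum_mul_sum] at h
  have h1 : ∑ x, indic t x = (centralizer ({t} : Set G)).index := by
    rw [← card_class, Finset.card_eq_sum_ones, Nat.cast_sum, ← Finset.sum_subset
      (Finset.subset_univ (fs {u | IsConj t u}))]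
    · refine Finset.sum_congr rfl fun u hu => ?_
      have hu' : IsConj t u := by simpa only [mem_fs, Set.mem_ofPred_eq] using hu
      simp only [indic, if_pos hu']; simp
    · intro u _ hu
      have hu' : ¬ IsConj t u := by simpa only [mem_fs, Set.mem_ofPred_eq] using hu
      simp only [indic, if_neg hu']
  rw [h1, ← pow_two] at h
  exact_mod_cast h

theorem inverts_of_mem {t g u : G} (ht : t * t = 1) (hu : IsConj t u ∧ IsConj t (u⁻¹ * g)) :
    u * g * u⁻¹ = g⁻¹ := by
  have := inverts_mul (sq_of_isConj ht hu.1) (sq_of_isConj ht hu.2)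
  rwa [mul_inv_cancel_left] at this

theorem ff_le {t : G} (ht : t * t = 1) (g : G) : ff t g ≤ Nat.card (centralizer ({g} : Set G)) := by
  unfold ff
  rcases (fs {u | IsConj t u ∧ IsConj t (u⁻¹ * g)}).eq_empty_or_nonempty with h | ⟨v, hv⟩
  · rw [h]; simp
  rw [← card_fs_subgroup]
  have hv' := inverts_of_mem ht (by simpa only [mem_fs, Set.mem_ofPred_eq] using hv)
  refine Finset.card_le_card_of_injOn (fun u => v⁻¹ * u) (fun u hu => ?_) fun u _ w _ e => by
    simpa using e
  have hu' := inverts_of_mem ht (by simpa only [Finset.mem_coe, mem_fs, Set.mem_ofPred_eq] using hu)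
  simp only [Finset.mem_coe, mem_fs, SetLike.mem_coe, mem_centralizer_singleton_iff]
  calc _ = v⁻¹ * (u * g * u⁻¹) * u := by group
    _ = v⁻¹ * (v * g * v⁻¹) * v * (v⁻¹ * u) := by rw [hu', hv']; group
    _ = _ := by group

/-- the sum of a character over products of two conjugate involutions -/
theorem sum_ff_mul [Fintype G] {t : G} {χ : G → ℂ} (hχ : χ ∈ Irr (⊤ : Subgroup G)) :
    ∑ g, (ff t g : ℂ) * χ g = ((centralizer ({t} : Set G)).index * χ t) ^ 2 / χ 1 := by
  have h := (mem_Irr_top.1 hχ).sum_conv_mul (mem_CF_top.1 (indic_mem_CF t)) (indic t)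
  simp only [conv_indic] at h
  have h1 : ∑ x, indic t x * χ x = (centralizer ({t} : Set G)).index * χ t := by
    rw [← card_class, Finset.card_eq_sum_ones, Nat.cast_sum, Finset.sum_mul, ← Finset.sum_subset
      (Finset.subset_univ (fs {u | IsConj t u}))]
    · refine Finset.sum_congr rfl fun u hu => ?_
      have hu' : IsConj t u := by simpa only [mem_fs, Set.mem_ofPred_eq] using hu
      simp only [indic, if_pos hu']; rw [cf_of_isConj (Irr.cf hχ) hu']; simp
    · intro u _ hu
      have hu' : ¬ IsConj t u := by simpa only [mem_fs, Set.mem_ofPred_eq] using hu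
      simp only [indic, if_neg hu', zero_mul]
  rw [h, h1, pow_two]

namespace SSC
variable {A : Subgroup G} (hA : SSC A)
include hA

theorem odd_card (he : Even (A.relIndex (normalizer (A : Set G)))) : Odd (Nat.card A) := by
  have h := (even_iff_two_dvd.1 he).trans hA.relIndex_dvd
  have : 0 < Nat.card A := Nat.card_pos
  rw [Nat.odd_iff]; omega

theorem inv_of {t : G} (ho : Odd (Nat.card A)) (ht : t ∈ normalizer (A : Set G)) (h2 : t * t = 1)
    (h1 : t ≠ 1) : Inv A t :=
  ⟨h2, h1, fun _ ha => hA.cc.inverts (fun e => h1 (eq_one_of_odd ho e h2)) ht h2 ha, ho⟩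

theorem exists_inv (he : Even (A.relIndex (normalizer (A : Set G)))) : ∃ t, Inv A t := by
  obtain ⟨t, ht⟩ := exists_prime_orderOf_dvd_card' (G := normalizer (A : Set G)) 2 (by
    rw [card_normalizer]; exact (even_iff_two_dvd.1 he).mul_right _)
  have ht' : orderOf (t : G) = 2 := by rw [orderOf_coe, ht]
  refine ⟨t, hA.inv_of (hA.odd_card he) t.2 (by rw [← pow_two, ← ht', pow_orderOf_eq_one]) ?_⟩
  intro e; rw [e, orderOf_one] at ht'; omega

theorem mem_coset {t u a : G} (ht : Inv A t) (ha : a ∈ A) (h1 : a ≠ 1) (hu : u * a * u⁻¹ = a⁻¹) :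
    t⁻¹ * u ∈ A := by
  refine hA.mem_of_comm ha h1 ?_
  calc _ = t⁻¹ * (u * a * u⁻¹) * u := by group
    _ = t⁻¹ * (t * a * t⁻¹) * t * (t⁻¹ * u) := by rw [hu, ht.inv a ha]; group
    _ = _ := by group

theorem exists_four (he : A.relIndex (normalizer (A : Set G)) = 4) (hn : 1 < Nat.card A) :
    ∃ w ∈ normalizer (A : Set G), Inv A (w * w) := by
  have ho := hA.odd_card (by rw [he]; decide)
  obtain ⟨t, ht⟩ := hA.exists_inv (by rw [he]; decide)
  have := Finite.one_lt_card_iff_nontrivial.1 hn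
  obtain ⟨⟨a, ha⟩, a1⟩ := exists_ne (1 : A)
  have a1' : a ≠ 1 := fun e => a1 (Subtype.ext e)
  by_contra hne
  push Not at hne
  have hsub : fs (normalizer (A : Set G) : Set G) ⊆ fs (A : Set G) ∪ (fs (A : Set G)).image (t * ·) := by
    intro h hh
    have hh' : h ∈ normalizer (A : Set G) := by simpa using hh
    by_cases hA' : h ∈ A
    · simp [hA']
    have h4 : h ^ 4 ∈ A := by
      have : (A.subgroupOf (normalizer (A : Set G))).Normal := normal_in_normalizer
      have := pow_index_mem (A.subgroupOf (normalizer (A : Set G))) ⟨h, hh'⟩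
      rwa [show (A.subgroupOf (normalizer (A : Set G))).index = 4 from he] at this
    have h4' : h ^ 4 = 1 := hA.cc.fpf hA' h4 (by group)
    have h2 : h * h = 1 := by
      by_contra h2
      exact hne h hh' (hA.inv_of ho (mul_mem hh' hh') (by rw [← h4']; simp only [pow_succ, pow_zero, one_mul, mul_assoc]) h2)
    have := hA.mem_coset ht ha a1' ((hA.inv_of ho hh' h2 (by rintro rfl; exact hA' A.one_mem)).inv a ha)
    exact Finset.mem_union_right _ (Finset.mem_image.2 ⟨_, by simpa using this, by group⟩)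
  have := (Finset.card_le_card hsub).trans ((Finset.card_union_le _ _).trans
    (Nat.add_le_add_left Finset.card_image_le _))
  rw [card_fs_subgroup, card_fs_subgroup, card_normalizer, he] at this
  omega

theorem ff_of_isConj {t u a : G} (ht : Inv A t) (hu : IsConj u t) (ha : a ∈ A) (h1 : a ≠ 1) :
    ff u a = Nat.card A := by
  have u2 := sq_of_isConj ht.sq hu.symm
  rw [ff, ← card_fs_subgroup]
  refine Finset.card_bij (fun v _ => t⁻¹ * v) (fun v hv => ?_) (fun v _ w _ e => by simpa using e)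
    fun b hb => ⟨t * b, ?_, by group⟩
  · simpa using hA.mem_coset ht ha h1 (inverts_of_mem u2 (by simpa only [mem_fs, Set.mem_ofPred_eq] using hv))
  · have hb' : b ∈ A := by simpa using hb
    have h2 : (t * b)⁻¹ * a = t * (b * a) := by
      rw [inv_eq_of_mul_eq_one_right (sq_of_isConj ht.sq (ht.isConj_mul hb')), mul_assoc]
    have : IsConj u (t * b) ∧ IsConj u ((t * b)⁻¹ * a) :=
      ⟨hu.trans (ht.isConj_mul hb'), h2 ▸ hu.trans (ht.isConj_mul (A.mul_mem hb' ha))⟩
    simpa only [mem_fs, Set.mem_ofPred_eq] using this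

theorem ff_of_not_isConj {t u a : G} (ht : Inv A t) (u2 : u * u = 1) (hu : ¬ IsConj u t)
    (ha : a ∈ A) (h1 : a ≠ 1) : ff u a = 0 := by
  rw [ff, Finset.card_eq_zero, Finset.eq_empty_iff_forall_notMem]
  intro v hv
  have hv' : IsConj u v ∧ IsConj u (v⁻¹ * a) := by simpa only [mem_fs, Set.mem_ofPred_eq] using hv
  have := ht.isConj_mul (hA.mem_coset ht ha h1 (inverts_of_mem u2 hv'))
  rw [mul_inv_cancel_left] at this
  exact hu (hv'.1.trans this.symm)

end SSC

end CL.SCS
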