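import Mathlib
import Cfsg.Agent.INV.SCS.Inv

/-! Exceptional characters of a strongly self-centralizing subgroup of index two in its
normalizer. -/

set_option autoImplicit false
open Cfsg CL.PF CL.Char CL.Odd Subgroup
open scoped Classical ComplexConjugate

namespace CL.SCS

variable {G : Type*} [Group G] [Finite G]

theorem sum_lin {B : Subgroup G} (hc : ∀ a ∈ B, ∀ b ∈ B, a * b = b * a) (b : G) :
    ∑ l : Dual B, lin l b = if b = 1 then (Nat.card B : ℂ) else 0 := by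
  rw [← sum_Irr_one_mul B b, Irr_eq_image_lin hc, Finset.sum_image fun _ _ _ _ e => lin_injective e]
  simp only [lin_apply_one, one_mul]

theorem eq_sum_lin {B : Subgroup G} (hc : ∀ a ∈ B, ∀ b ∈ B, a * b = b * a) {ψ : G → ℂ}
    (hψ : ψ ∈ CF (⊤ : Subgroup G)) {b : G} (hb : b ∈ B) :
    ψ b = ∑ l : Dual B, ip B ψ (lin l) * lin l b := by
  have h := congrFun (CF.eq_sum_Irr (CF.res_mem (le_top (a := B)) hψ)) b
  rw [res_of_mem _ hb, Irr_eq_image_lin hc, Finset.sum_image fun _ _ _ _ e => lin_injective e] at h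
  rw [h, Finset.sum_apply]
  simp only [ip_res_left le_rfl, Pi.smul_apply, smul_eq_mul]

theorem fourier {B : Subgroup G} (hc : ∀ a ∈ B, ∀ b ∈ B, a * b = b * a) {ψ : G → ℂ}
    (hψ : ψ ∈ CF (⊤ : Subgroup G)) {r c : ℂ} (hr : ∀ l : Dual B, l ≠ 1 → ip B ψ (lin l) = r)
    (h1 : ip B ψ (lin (1 : Dual B)) = r + c) :
    (∀ b ∈ B, b ≠ 1 → ψ b = c) ∧ ψ 1 = r * Nat.card B + c := by
  have key : ∀ b ∈ B, ψ b = r * (if b = 1 then (Nat.card B : ℂ) else 0) + c := fun b hb => by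
    rw [eq_sum_lin hc hψ hb, ← sum_lin hc b, Finset.mul_sum,
      ← Finset.add_sum_erase _ _ (Finset.mem_univ 1), ← Finset.add_sum_erase _ _ (Finset.mem_univ 1),
      h1, Finset.sum_congr rfl fun l hl => by rw [hr l (Finset.mem_erase.1 hl).1], lin_one,
      triv_of_mem hb]
    ring
  exact ⟨fun b hb b1 => by rw [key b hb, if_neg b1]; simp, by rw [key 1 B.one_mem, if_pos rfl]⟩

theorem ne_inv {B : Subgroup G} (hc : ∀ a ∈ B, ∀ b ∈ B, a * b = b * a) (ho : Odd (Nat.card B))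
    {l : Dual B} (h : l ≠ 1) : l ≠ l⁻¹ := fun e => h (eq_one_of_odd (A := ⊤) (by
      rw [card_top, Nat.card_eq_fintype_card, card_dual hc]; exact ho) trivial
        (by nth_rewrite 2 [e]; simp))

/-- the induced virtual character `(1 - l)^G` -/
noncomputable def phi (A : Subgroup G) (l : Dual A) : G → ℂ := ind A ⊤ (triv A - lin l)

theorem phi_zirr (A : Subgroup G) (l : Dual A) : phi A l ∈ ZIrr (⊤ : Subgroup G) :=
  ZIrr.ind_mem le_top (sub_mem (triv_mem_ZIrr A) (Irr.zirr (lin_mem_Irr l)))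

theorem phi_of_not_mem {A : Subgroup G} (l : Dual A) {g : G} (hg : g ∉ X A) : phi A l g = 0 :=
  ind_eq_zero fun k _ hk => by
    by_cases e : k * g * k⁻¹ = 1
    · rw [e]; simp [triv_of_mem A.one_mem, lin_apply_one]
    · exact (hg (X_conj_iff.1 (mem_X hk e))).elim

theorem ip_phi {A : Subgroup G} (l : Dual A) {ψ : G → ℂ} (hψ : ψ ∈ CF (⊤ : Subgroup G)) :
    ip ⊤ (phi A l) ψ = ip A (triv A - lin l) ψ := ip_ind_left le_top _ hψ

theorem ip_congr_ne_one {A : Subgroup G} {a b b' : G → ℂ} (ha : a 1 = 0)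
    (h : ∀ x ∈ A, x ≠ 1 → b x = b' x) : ip A a b = ip A a b' := by
  unfold ip
  congr 1
  refine Finset.sum_congr rfl fun x hx => ?_
  by_cases e : x = 1
  · rw [e, ha]; simp
  · rw [h x (by simpa using hx) e]

/-- a strongly self-centralizing subgroup of index two in its normalizer -/
structure Two (A : Subgroup G) (t : G) : Prop where
  ssc : SSC A
  idx : A.relIndex (normalizer (A : Set G)) = 2
  inv : Inv A t

namespace Two
variable {A : Subgroup G} {t : G} (h : Two A t)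
include h

theorem comm : ∀ a ∈ A, ∀ b ∈ A, a * b = b * a := fun _ ha _ hb => h.ssc.comm ha hb

theorem ind_apply_mem (φ : G → ℂ) {a : G} (ha : a ∈ A) (h1 : a ≠ 1) :
    ind A ⊤ φ a = φ a + φ a⁻¹ := by
  have tN : t ∈ normalizer (A : Set G) := h.ssc.ti ha h1 (by rw [h.inv.inv a ha]; exact A.inv_mem ha)
  have hd : Disjoint (fs (A : Set G)) ((fs (A : Set G)).image (t * ·)) := by
    rw [Finset.disjoint_left]
    intro x hx hx'
    obtain ⟨b, hb, rfl⟩ := Finset.mem_image.1 hx'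
    exact h.inv.not_mem ((A.mul_mem_cancel_right (by simpa using hb)).1 (by simpa using hx))
  have hs : fs (A : Set G) ∪ (fs (A : Set G)).image (t * ·) ⊆ fs ((⊤ : Subgroup G) : Set G) :=
    fun x _ => by simp
  rw [ind_apply _ (mem_top a), ← Finset.sum_subset hs, Finset.sum_union hd,
    Finset.sum_image fun _ _ _ _ e => mul_left_cancel e,
    Finset.sum_congr rfl (g := fun _ => φ a) fun x hx => by
      rw [h.comm x (by simpa using hx) a ha, mul_inv_cancel_right, res_of_mem _ ha],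
    Finset.sum_congr (f := fun x => res A φ (t * x * a * (t * x)⁻¹)) rfl (g := fun _ => φ a⁻¹) fun x hx => by
      rw [show t * x * a * (t * x)⁻¹ = t * (x * a * x⁻¹) * t⁻¹ by group,
        h.comm x (by simpa using hx) a ha, mul_inv_cancel_right, h.inv.inv a ha,
        res_of_mem _ (A.inv_mem ha)],
    Finset.sum_const, Finset.sum_const, card_fs_subgroup]
  · have := card_ne_zero_complex A
    simp only [nsmul_eq_mul]; field_simp
  · intro x _ hx
    refine res_of_not_mem _ fun hm => hx ?_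
    have xN := h.ssc.ti ha h1 hm
    by_cases hxA : x ∈ A
    · simp [hxA]
    · have := (mul_mem_iff_of_index_two (H := A.subgroupOf (normalizer (A : Set G))) h.idx
        (a := ⟨t⁻¹, inv_mem tN⟩) (b := ⟨x, xN⟩)).2 (iff_of_false
          (fun e => h.inv.not_mem (A.inv_mem_iff.1 e)) hxA)
      exact Finset.mem_union_right _ (Finset.mem_image.2 ⟨t⁻¹ * x, by simpa [mem_subgroupOf] using this, by group⟩)

theorem phi_apply (l : Dual A) {a : G} (ha : a ∈ A) (h1 : a ≠ 1) :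
    phi A l a = (triv A + triv A - lin l - lin l⁻¹) a := by
  rw [phi, h.ind_apply_mem _ ha h1, lin_inv]
  simp only [Pi.sub_apply, Pi.add_apply, triv_of_mem ha, triv_of_mem (A.inv_mem ha), Pi.star_apply,
    (Irr.isChar (lin_mem_Irr l)).apply_inv a, RCLike.star_def]
  ring

theorem ip_phi_phi {l m : Dual A} (hl : l ≠ 1) (hm : m ≠ 1) :
    ip ⊤ (phi A l) (phi A m) = if l = m ∨ l = m⁻¹ then 3 else 2 := by
  rw [ip_phi l (ZIrr.cf (phi_zirr A m)), ip_congr_ne_one (by simp [triv_of_mem A.one_mem, lin_apply_one])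
    fun x hx x1 => h.phi_apply m hx x1]
  simp only [← lin_one, ip_sub_left, ip_sub_right, ip_add_right, ip_lin]
  have := ne_inv h.comm h.inv.odd hm
  have hm' : (1 : Dual A) ≠ m⁻¹ := fun e => hm (inv_eq_one.1 e.symm)
  simp only [if_true, if_neg hl, if_neg hm.symm, if_neg hm']
  by_cases e : l = m
  · subst e; simp only [if_neg this, true_or, if_true]; norm_num
  · by_cases e' : l = m⁻¹
    · rw [if_neg e, if_pos e', if_pos (Or.inr e')]; norm_num
    · rw [if_neg e, if_neg e', if_neg (not_or.2 ⟨e, e'⟩)]; norm_num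

omit h in
theorem ip_phi_triv {l : Dual A} (hl : l ≠ 1) : ip ⊤ (phi A l) (triv ⊤) = 1 := by
  rw [ip_phi l (triv_mem_CF ⊤), ip_congr A (fun _ _ => rfl) (b' := triv A) fun x hx => by
    rw [triv_of_mem hx, triv_of_mem (mem_top x)]]
  simp only [← lin_one, ip_sub_left, ip_lin, if_neg hl]; simp

theorem phi_inv (l : Dual A) : phi A l⁻¹ = phi A l := by
  funext g
  by_cases hg : g ∈ X A
  · obtain ⟨a, ha, h1, hc⟩ := hg
    rw [cf_of_isConj (ZIrr.cf (phi_zirr A _)) hc, cf_of_isConj (ZIrr.cf (phi_zirr A _)) hc,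
      h.phi_apply _ ha h1, h.phi_apply _ ha h1, inv_inv]
    simp only [Pi.sub_apply]; ring
  · rw [phi_of_not_mem _ hg, phi_of_not_mem _ hg]

end Two

/-- the exceptional characters `θ` and the non-exceptional character `χ` -/
structure Dat (A : Subgroup G) where
  χ : G → ℂ
  θ : Dual A → G → ℂ
  δ : ℤ
  hδ : δ = 1 ∨ δ = -1
  χ_irr : χ ∈ Irr (⊤ : Subgroup G)
  χ_ne : χ ≠ triv ⊤
  θ_irr : ∀ l, l ≠ 1 → θ l ∈ Irr (⊤ : Subgroup G)
  θ_ne : ∀ l, l ≠ 1 → θ l ≠ triv ⊤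
  θ_ne_χ : ∀ l, l ≠ 1 → θ l ≠ χ
  θ_eq : ∀ l, l ≠ 1 → ∀ m, m ≠ 1 → (θ l = θ m ↔ l = m ∨ l = m⁻¹)
  eq : ∀ l, l ≠ 1 → phi A l = triv ⊤ + (δ : ℂ) • (χ - θ l)

theorem exists_two_classes {A : Subgroup G} (hc : ∀ a ∈ A, ∀ b ∈ A, a * b = b * a)
    (h5 : 4 ≤ Nat.card A) : ∃ l m : Dual A, l ≠ 1 ∧ m ≠ 1 ∧ ¬ (l = m ∨ l = m⁻¹) := by
  rw [← card_dual hc] at h5
  obtain ⟨m, hm⟩ := Fintype.exists_ne_of_one_lt_card (by omega) (1 : Dual A)
  obtain ⟨l, -, hl⟩ := Finset.exists_mem_notMem_of_card_lt_card (s := {1, m, m⁻¹})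
    (t := (Finset.univ : Finset (Dual A))) (Finset.card_le_three.trans_lt (by
      rw [Finset.card_univ]; omega))
  simp only [Finset.mem_insert, Finset.mem_singleton, not_or] at hl
  exact ⟨l, m, hl.1, hm, not_or.2 hl.2⟩

theorem Two.exists_dat {A : Subgroup G} {t : G} (h : Two A t) (h5 : 4 ≤ Nat.card A) :
    Nonempty (Dat A) := by
  have := Fintype.ofFinite G
  have ho := triv_mem_Irr (⊤ : Subgroup G)
  have ex : ∀ φ : G → ℂ, (∃ l : Dual A, l ≠ 1 ∧ φ = phi A l) → ∃ p : (G → ℂ) × (G → ℂ),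
      p.1 ∈ Irr (⊤ : Subgroup G) ∧ p.2 ∈ Irr (⊤ : Subgroup G) ∧ p.1 ≠ triv ⊤ ∧ p.2 ≠ triv ⊤ ∧
        p.1 ≠ p.2 ∧ φ = triv ⊤ + (p.1 - p.2) := by
    rintro _ ⟨l, hl, rfl⟩
    obtain ⟨U, V, hU, hV, hU1, hV1, hUV, e⟩ := (mem_ZIrr_top.mp (phi_zirr A l)).exists_of_norm_three
      (by rw [← ip_top, h.ip_phi_phi hl hl]; simp) (by rw [← ip_top, ← triv_top, Two.ip_phi_triv hl])
      (phi_of_not_mem l fun e => X_ne_one e rfl)
    exact ⟨(U, V), mem_Irr_top.2 hU, mem_Irr_top.2 hV, by rwa [triv_top], by rwa [triv_top], hUV,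
      funext fun g => by rw [e]; simp [triv_top]; ring⟩
  choose! p hp using ex
  set U : Dual A → G → ℂ := fun l => (p (phi A l)).1
  set V : Dual A → G → ℂ := fun l => (p (phi A l)).2
  have hq : ∀ l : Dual A, l ≠ 1 → U l ∈ Irr (⊤ : Subgroup G) ∧ V l ∈ Irr (⊤ : Subgroup G) ∧
      U l ≠ triv ⊤ ∧ V l ≠ triv ⊤ ∧ U l ≠ V l ∧ phi A l = triv ⊤ + (U l - V l) :=
    fun l hl => hp _ ⟨l, hl, rfl⟩
  have same : ∀ l m : Dual A, l = m ∨ l = m⁻¹ → U l = U m ∧ V l = V m := by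
    rintro l m (rfl | rfl)
    · exact ⟨rfl, rfl⟩
    · simp only [U, V, h.phi_inv, and_self]
  have dif : ∀ l m : Dual A, l ≠ 1 → m ≠ 1 → ¬ (l = m ∨ l = m⁻¹) →
      (U l = U m ∧ V l ≠ V m) ∨ (U l ≠ U m ∧ V l = V m) := fun l m hl hm hlm => by
    have e := h.ip_phi_phi hl hm
    obtain ⟨a1, a2, a3, a4, a5, a6⟩ := hq l hl
    obtain ⟨b1, b2, b3, b4, b5, b6⟩ := hq m hm
    rw [if_neg hlm, a6, b6] at e
    simp only [ip_add_left, ip_add_right, ip_sub_left, ip_sub_right, Irr.ip_self ho,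
      Irr.ip_of_ne ho b1 b3.symm, Irr.ip_of_ne ho b2 b4.symm, Irr.ip_of_ne a1 ho a3,
      Irr.ip_of_ne a2 ho a4, Irr.ip_eq a1 b1, Irr.ip_eq a1 b2, Irr.ip_eq a2 b1, Irr.ip_eq a2 b2] at e
    by_cases c1 : U l = U m <;> by_cases c2 : V l = V m
    · rw [if_pos c1, if_pos c2, if_neg (fun e' => b5 (c1.symm.trans e')),
        if_neg (fun e' => b5 (e'.symm.trans c2))] at e; norm_num at e
    · exact Or.inl ⟨c1, c2⟩
    · exact Or.inr ⟨c1, c2⟩
    · rw [if_neg c1, if_neg c2] at e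
      split_ifs at e <;> norm_num at e
  obtain ⟨l, m, hl, hm, hlm⟩ := exists_two_classes h.comm h5
  rcases dif l m hl hm hlm with ⟨c1, c2⟩ | ⟨c1, c2⟩
  · have all : ∀ k, k ≠ 1 → U k = U l := fun k hk => by
      by_contra hne
      have e1 := ((dif k l hk hl fun e => hne (same k l e).1).resolve_left fun e => hne e.1).2
      have e2 := ((dif k m hk hm fun e => hne (c1 ▸ (same k m e).1)).resolve_left
        fun e => hne (c1 ▸ e.1)).2
      exact c2 (e1.symm.trans e2)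
    refine ⟨⟨U l, V, 1, Or.inl rfl, (hq l hl).1, (hq l hl).2.2.1, fun k hk => (hq k hk).2.1,
      fun k hk => (hq k hk).2.2.2.1, fun k hk => all k hk ▸ (hq k hk).2.2.2.2.1.symm,
      fun k hk j hj => ⟨fun e => ?_, fun e => (same k j e).2⟩,
      fun k hk => by rw [(hq k hk).2.2.2.2.2, all k hk]; simp⟩⟩
    by_contra hne
    rcases dif k j hk hj hne with e' | e'
    · exact e'.2 e
    · exact e'.1 ((all k hk).trans (all j hj).symm)
  · have all : ∀ k, k ≠ 1 → V k = V l := fun k hk => by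
      by_contra hne
      have e1 := ((dif k l hk hl fun e => hne (same k l e).2).resolve_right fun e => hne e.2).1
      have e2 := ((dif k m hk hm fun e => hne (c2 ▸ (same k m e).2)).resolve_right
        fun e => hne (c2 ▸ e.2)).1
      exact c1 (e1.symm.trans e2)
    refine ⟨⟨V l, U, -1, Or.inr rfl, (hq l hl).2.1, (hq l hl).2.2.2.1, fun k hk => (hq k hk).1,
      fun k hk => (hq k hk).2.2.1, fun k hk => all k hk ▸ (hq k hk).2.2.2.2.1,
      fun k hk j hj => ⟨fun e => ?_, fun e => (same k j e).1⟩,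
      fun k hk => by rw [(hq k hk).2.2.2.2.2, all k hk]; simp⟩⟩
    by_contra hne
    rcases dif k j hk hj hne with e' | e'
    · exact e'.2 ((all k hk).trans (all j hj).symm)
    · exact e'.1 e

end CL.SCS
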