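import Mathlib
import Cfsg.Agent.INV.SCS.Chr
import Cfsg.Agent.BLK.D1Det

/-! Values of the characters attached to a strongly self-centralizing subgroup of index two in its
normalizer; the order formula. -/

set_option autoImplicit false
open Cfsg CL.PF CL.Char CL.Odd Subgroup
open scoped Classical ComplexConjugate

namespace CL.SCS

variable {G : Type*} [Group G] [Finite G]

theorem val_of_ip {A : Subgroup G} (hc : ∀ a ∈ A, ∀ b ∈ A, a * b = b * a) {ψ : G → ℂ}
    (hψ : ψ ∈ CF (⊤ : Subgroup G)) {c : ℤ} (h : ∀ l : Dual A, l ≠ 1 → ip ⊤ (phi A l) ψ = c) :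
    (∀ g ∈ X A, ψ g = c) ∧ ψ 1 = (ip A ψ (triv A) - c) * Nat.card A + c := by
  have := fourier hc hψ (r := ip A ψ (triv A) - c) (c := c) (fun l hl => by
    have e := congrArg conj (h l hl)
    rw [ip_phi l hψ, conj_ip, ip_sub_right, map_intCast] at e
    linear_combination -e) (by rw [lin_one]; ring)
  refine ⟨?_, this.2⟩
  rintro g ⟨a, ha, a1, hg⟩
  rw [cf_of_isConj hψ hg, this.1 a ha a1]

theorem exists_int_sum {H : Subgroup G} {ψ : G → ℂ} (hψ : ψ ∈ ZIrr (⊤ : Subgroup G)) :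
    ∃ k : ℤ, ip H ψ (triv H) = k ∧ ∑ h ∈ fs (H : Set G), ψ h = Nat.card H * k := by
  obtain ⟨k, hk⟩ := ZIrr.exists_int_ip (ZIrr.res_mem le_top hψ) (triv_mem_ZIrr H)
  rw [ip_res_left le_rfl] at hk
  refine ⟨k, hk, ?_⟩
  rw [← hk, ip, ← mul_assoc, mul_inv_cancel₀ (card_ne_zero_complex H), one_mul]
  exact Finset.sum_congr rfl fun x hx => by rw [triv_of_mem (by simpa using hx)]; simp

theorem dvd_card_of_irr {ψ : G → ℂ} (hψ : ψ ∈ Irr (⊤ : Subgroup G)) {x : ℤ} (hx : ψ 1 = x) :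
    0 < x ∧ x ∣ Nat.card G := by
  obtain ⟨n, hn, e⟩ := Irr.exists_pos_one hψ
  have h2 := (mem_Irr_top.1 hψ).charDegree_dvd_card
  rw [show charDegree ψ = n by simp [charDegree, e]] at h2
  rw [hx] at e
  obtain rfl : x = n := by exact_mod_cast e
  exact ⟨by omega, Int.natCast_dvd_natCast.2 h2⟩

/-- the trace of an involution inverting `B` is bounded by the dimension of the fixed space -/
theorem Inv.trace_le {B : Subgroup G} {t : G} (h : Inv B t) {ψ : G → ℂ}
    (hψ : IsChar (⊤ : Subgroup G) ψ) {a S : ℤ} (ha : ψ t = a)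
    (hS : ∑ b ∈ fs (B : Set G), ψ b = S) : |a| * Nat.card B ≤ S := by
  have hn : ∀ b ∈ B, t * b * t ∈ B := fun b hb => by
    have := h.inv b hb; rw [h.inv_eq] at this; rw [this]; exact B.inv_mem hb
  let H : Subgroup G :=
    { carrier := {g | g ∈ B ∨ t * g ∈ B}
      one_mem' := Or.inl B.one_mem
      mul_mem' := by
        rintro x y (hx | hx) (hy | hy)
        · exact Or.inl (B.mul_mem hx hy)
        · refine Or.inr ?_
          rw [show t * (x * y) = (t * x * t) * (t⁻¹ * y) by group, h.inv_eq]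
          exact B.mul_mem (hn x hx) hy
        · exact Or.inr (by rw [← mul_assoc]; exact B.mul_mem hx hy)
        · refine Or.inl ?_
          rw [show x * y = (t⁻¹ * (t * x) * t) * (t⁻¹ * y) by group, h.inv_eq]
          exact B.mul_mem (hn _ hx) hy
      inv_mem' := by
        rintro x (hx | hx)
        · exact Or.inl (B.inv_mem hx)
        · refine Or.inr ?_
          rw [show t * x⁻¹ = t * (t * x)⁻¹ * t by group]
          exact hn _ (B.inv_mem hx) }
  have ex : ∀ g, g ∈ B → t * g ∉ B := fun g hg e => h.not_mem ((B.mul_mem_cancel_right hg).1 e)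
  have hsum : ∀ f : G → ℂ, ∑ g ∈ fs (H : Set G), f g =
      ∑ b ∈ fs (B : Set G), f b + ∑ b ∈ fs (B : Set G), f (t * b) := fun f => by
    rw [← Finset.sum_image (s := fs (B : Set G)) (g := (t * ·)) (f := f)
      fun _ _ _ _ e => mul_left_cancel e, ← Finset.sum_union]
    · congr 1
      ext g
      simp only [mem_fs, SetLike.mem_coe, Finset.mem_union, Finset.mem_image]
      refine or_congr_right ⟨fun hg => ⟨_, hg, by rw [← mul_assoc, h.sq, one_mul]⟩, ?_⟩
      rintro ⟨b, hb, rfl⟩; rwa [← mul_assoc, h.sq, one_mul]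
    · rw [Finset.disjoint_left]
      intro x hx hx'
      obtain ⟨b, hb, rfl⟩ := Finset.mem_image.1 hx'
      exact ex b (by simpa using hb) (by simpa using hx)
  have h2 : ∑ b ∈ fs (B : Set G), ψ (t * b) = Nat.card B * a := by
    rw [Finset.sum_congr rfl (g := fun _ => (a : ℂ)) fun b hb => by
      rw [cf_of_isConj hψ.cf (h.isConj_mul (by simpa using hb)), ha], Finset.sum_const,
      card_fs_subgroup, nsmul_eq_mul]
  have key : ∀ ε : ℤ, ε * ε = 1 → 0 ≤ S + ε * (Nat.card B * a) := fun ε hε => by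
    obtain ⟨l, hl⟩ := exists_lin_of_map_mul (H := H) (f := fun g => if g ∈ B then 1 else (ε : ℂ))
      (if_pos B.one_mem) (by
        rintro x (hx | hx) y (hy | hy)
        · simp [hx, hy, B.mul_mem hx hy]
        · have hy' : y ∉ B := fun e => ex y e hy
          simp [hx, hy', B.mul_mem_cancel_left hx]
        · have hx' : x ∉ B := fun e => ex x e hx
          simp [hy, hx', B.mul_mem_cancel_right hy]
        · have hx' : x ∉ B := fun e => ex x e hx
          have hy' : y ∉ B := fun e => ex y e hy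
          have : x * y ∈ B := by
            rw [show x * y = (t⁻¹ * (t * x) * t) * (t⁻¹ * y) by group, h.inv_eq]
            exact B.mul_mem (hn _ hx) hy
          simp only [if_pos this, if_neg hx', if_neg hy']
          exact_mod_cast hε.symm)
    obtain ⟨k, hk⟩ := (hψ.res le_top).exists_nat_ip (Irr.isChar (lin_mem_Irr l))
    rw [ip_res_left le_rfl, hl, ip_res_right le_rfl, ip, hsum,
      Finset.sum_congr (s₁ := fs (B : Set G)) rfl (g := ψ) fun b hb => by
        rw [if_pos (by simpa using hb)]; simp,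
      Finset.sum_congr (f := fun b => ψ (t * b) * _) rfl (g := fun b => ε * ψ (t * b)) fun b hb => by
        rw [if_neg (ex b (by simpa using hb))]; simp [mul_comm],
      ← Finset.mul_sum, h2, hS, inv_mul_eq_iff_eq_mul₀ (card_ne_zero_complex H)] at hk
    have : S + ε * (Nat.card B * a) = Nat.card H * k := by exact_mod_cast hk
    rw [this]; positivity
  have k1 := key 1 rfl
  have k2 := key (-1) rfl
  rcases abs_cases a with e | e <;> rw [e.1] <;> linarith

namespace Dat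
variable {A : Subgroup G} {t : G} (D : Dat A)

theorem δ_sq : D.δ * D.δ = 1 := by rcases D.hδ with e | e <;> rw [e] <;> rfl

theorem ip_phi_irr {l : Dual A} (hl : l ≠ 1) {ψ : G → ℂ} (hψ : ψ ∈ Irr (⊤ : Subgroup G)) :
    ip ⊤ (phi A l) ψ = (if triv ⊤ = ψ then 1 else 0) +
      D.δ * ((if D.χ = ψ then 1 else 0) - if D.θ l = ψ then 1 else 0) := by
  rw [D.eq l hl, ip_add_left, ip_smul_left, ip_sub_left, Irr.ip_eq (triv_mem_Irr ⊤) hψ,
    Irr.ip_eq D.χ_irr hψ, Irr.ip_eq (D.θ_irr l hl) hψ]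

theorem ip_phi_χ {l : Dual A} (hl : l ≠ 1) : ip ⊤ (phi A l) D.χ = D.δ := by
  rw [D.ip_phi_irr hl D.χ_irr, if_neg D.χ_ne.symm, if_pos rfl, if_neg (D.θ_ne_χ l hl)]; simp

theorem θ_off {l : Dual A} (hl : l ≠ 1) {g : G} (hg : g ∉ X A) : D.θ l g = D.χ g + D.δ := by
  have e := congrFun (D.eq l hl) g
  rw [phi_of_not_mem l hg] at e
  simp only [Pi.add_apply, Pi.smul_apply, Pi.sub_apply, triv_of_mem (mem_top g), smul_eq_mul] at e
  have : (D.δ : ℂ) * D.δ = 1 := by exact_mod_cast D.δ_sq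
  linear_combination D.δ * e + (D.χ g - D.θ l g) * this

/-- the integer value of `χ` -/
noncomputable def ch (g : G) : ℤ := ⌊(D.χ g).re⌋

variable (h : Two A t) (h5 : 4 ≤ Nat.card A)
include h

theorem χ_X {g : G} (hg : g ∈ X A) : D.χ g = D.δ :=
  (val_of_ip h.comm (Irr.cf D.χ_irr) fun _ hl => D.ip_phi_χ hl).1 g hg

theorem vanish {ψ : G → ℂ} (hψ : ψ ∈ Irr (⊤ : Subgroup G)) (h1 : ψ ≠ triv ⊤) (h2 : ψ ≠ D.χ)
    (h3 : ∀ l, l ≠ 1 → ψ ≠ D.θ l) {g : G} (hg : g ∈ X A) : ψ g = 0 := by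
  simpa using (val_of_ip h.comm (Irr.cf hψ) (c := 0) fun l hl => by
    rw [D.ip_phi_irr hl hψ, if_neg h1.symm, if_neg h2.symm, if_neg (h3 l hl).symm]; simp).1 g hg

include h5

theorem χ_eq (g : G) : D.χ g = D.ch g := by
  suffices key : ∀ u, aut u D.χ = D.χ by
    obtain ⟨n, hn⟩ := ZIrr.exists_int_of_aut_eq (Irr.zirr D.χ_irr) key g
    rw [ch, hn]; simp
  intro u
  have hu := Irr.aut_mem D.χ_irr u
  have hv : ∀ g ∈ X A, aut u D.χ g = D.χ g := fun g hg => by
    rw [aut_apply, D.χ_X h hg, map_intCast]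
  have hδ : (D.δ : ℂ) ≠ 0 := by
    rcases D.hδ with e | e <;> rw [e] <;> norm_num
  by_contra hne
  have := Finite.one_lt_card_iff_nontrivial.1 (by omega : 1 < Nat.card A)
  obtain ⟨⟨a, ha⟩, a1⟩ := exists_ne (1 : A)
  have aX := mem_X ha fun e => a1 (Subtype.ext e)
  refine hδ ?_
  rw [← D.χ_X h aX, ← hv a aX]
  refine D.vanish h hu (fun e => D.χ_ne (aut_injective u (e.trans (aut_triv u ⊤).symm))) hne
    (fun l hl e => ?_) aX
  have e1 := D.ip_phi_irr hl (D.θ_irr l hl)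
  rw [if_neg (D.θ_ne l hl).symm, if_neg (D.θ_ne_χ l hl).symm, if_pos rfl,
    ip_phi l (Irr.cf (D.θ_irr l hl)), ip_congr_ne_one (b' := D.χ)
      (by simp [triv_of_mem A.one_mem, lin_apply_one]) fun x hx x1 => by
        rw [← e, hv x (mem_X hx x1)], ← ip_phi l (Irr.cf D.χ_irr), D.ip_phi_χ hl] at e1
  exact hδ (by linear_combination e1 / 2)

theorem ch_conj (k g : G) : D.ch (k * g * k⁻¹) = D.ch g := by
  rw [ch, CF.conj (Irr.cf D.χ_irr) (mem_top k)]; rfl

theorem ch_of_isConj {g k : G} (e : IsConj g k) : D.ch k = D.ch g := by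
  obtain ⟨c, rfl⟩ := isConj_iff.1 e; exact D.ch_conj h h5 c g

theorem ch_X {g : G} (hg : g ∈ X A) : D.ch g = D.δ := by
  have := D.χ_X h hg
  rw [D.χ_eq h h5] at this; exact_mod_cast this

theorem sum_ch [Fintype G] : ∑ g, D.ch g = 0 := by
  obtain ⟨k, hk, e⟩ := exists_int_sum (H := ⊤) (Irr.zirr D.χ_irr)
  rw [Irr.ip_of_ne D.χ_irr (triv_mem_Irr ⊤) D.χ_ne] at hk
  rw [← hk, fs_top, mul_zero] at e
  simp only [D.χ_eq h h5] at e
  exact_mod_cast e

theorem sum_ch_sq [Fintype G] : ∑ g, D.ch g ^ 2 = Nat.card G := by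
  have e := Irr.ip_self D.χ_irr
  rw [ip, fs_top, inv_mul_eq_iff_eq_mul₀ (card_ne_zero_complex _), card_top, mul_one] at e
  simp only [D.χ_eq h h5, map_intCast, ← pow_two] at e
  exact_mod_cast e

theorem dvd_sum (H : Subgroup G) : (Nat.card H : ℤ) ∣ ∑ g ∈ fs (H : Set G), D.ch g := by
  obtain ⟨k, -, e⟩ := exists_int_sum (H := H) (Irr.zirr D.χ_irr)
  simp only [D.χ_eq h h5] at e
  exact ⟨k, by exact_mod_cast e⟩

theorem x_pos : 0 < D.ch 1 := (dvd_card_of_irr D.χ_irr (D.χ_eq h h5 1)).1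

theorem x_dvd : D.ch 1 ∣ Nat.card G := (dvd_card_of_irr D.χ_irr (D.χ_eq h h5 1)).2

theorem θ_eq_ch {l : Dual A} (hl : l ≠ 1) {g : G} (hg : g ∉ X A) :
    D.θ l g = (D.ch g + D.δ : ℤ) := by
  rw [D.θ_off hl hg, D.χ_eq h h5]; simp

theorem y_pos_dvd : 0 < D.ch 1 + D.δ ∧ D.ch 1 + D.δ ∣ Nat.card G := by
  obtain ⟨l, -, hl, -⟩ := exists_two_classes h.comm h5
  exact dvd_card_of_irr (D.θ_irr l hl) (D.θ_eq_ch h h5 hl fun e => X_ne_one e rfl)

theorem n_dvd : (Nat.card A : ℤ) ∣ D.ch 1 - D.δ := by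
  have e := (val_of_ip h.comm (Irr.cf D.χ_irr) fun _ hl => D.ip_phi_χ hl).2
  obtain ⟨k, hk, -⟩ := exists_int_sum (H := A) (Irr.zirr D.χ_irr)
  rw [hk, D.χ_eq h h5] at e
  have : D.ch 1 = (k - D.δ) * Nat.card A + D.δ := by exact_mod_cast e
  exact ⟨k - D.δ, by rw [this]; ring⟩

/-- the class-multiplication formula -/
theorem formula {u : G} (hu : u * u = 1) :
    ((centralizer ({u} : Set G)).index : ℤ) ^ 2 * (D.ch 1 - D.ch u) ^ 2 =
      if IsConj u t then Nat.card G * (Nat.card A * (D.ch 1 * (D.ch 1 + D.δ))) else 0 := by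
  have := Fintype.ofFinite G
  obtain ⟨l, -, hl, -⟩ := exists_two_classes h.comm h5
  have hf : (fun g => (ff u g : ℂ)) ∈ CF (⊤ : Subgroup G) :=
    ⟨fun x hx => (hx trivial).elim, fun k _ g => by simp only [ff_conj]⟩
  have e1 : ip ⊤ (phi A l) (fun g => (ff u g : ℂ)) = if IsConj u t then (Nat.card A : ℂ) else 0 := by
    rw [ip_phi l hf, ip_congr_ne_one (b' := (if IsConj u t then (Nat.card A : ℂ) else 0) • triv A)
      (by simp [triv_of_mem A.one_mem, lin_apply_one]) fun x hx x1 => by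
        simp only [Pi.smul_apply, triv_of_mem hx, smul_eq_mul, mul_one]
        split_ifs with hc
        · rw [h.ssc.ff_of_isConj h.inv hc hx x1]
        · rw [h.ssc.ff_of_not_isConj h.inv hu hc hx x1]; simp]
    rw [ip_smul_right, ← lin_one, ip_sub_left, ip_lin, ip_lin, if_pos rfl, if_neg hl]
    split_ifs <;> simp
  have s1 := sum_ff_mul (t := u) (triv_mem_Irr (⊤ : Subgroup G))
  have s2 := sum_ff_mul (t := u) D.χ_irr
  have s3 := sum_ff_mul (t := u) (D.θ_irr l hl)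
  have uX : u ∉ X A := not_mem_X_of_sq h.inv.odd hu
  rw [D.θ_eq_ch h h5 hl uX, D.θ_eq_ch h h5 hl fun e => X_ne_one e rfl] at s3
  rw [D.χ_eq h h5 u, D.χ_eq h h5 1] at s2
  rw [triv_of_mem (mem_top u), triv_of_mem (mem_top 1)] at s1
  rw [D.eq l hl, ip, fs_top, inv_mul_eq_iff_eq_mul₀ (card_ne_zero_complex _), card_top] at e1
  simp only [Pi.add_apply, Pi.smul_apply, Pi.sub_apply, smul_eq_mul, map_natCast] at e1
  rw [Finset.sum_congr rfl (g := fun g => ff u g * triv ⊤ g + D.δ * (ff u g * D.χ g) -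
    D.δ * (ff u g * D.θ l g)) fun g _ => by ring, Finset.sum_sub_distrib, Finset.sum_add_distrib,
    ← Finset.mul_sum, ← Finset.mul_sum, s1, s2, s3] at e1
  have x0 : (D.ch 1 : ℂ) ≠ 0 := by exact_mod_cast (D.x_pos h h5).ne'
  have y0 : ((D.ch 1 + D.δ : ℤ) : ℂ) ≠ 0 := by exact_mod_cast (D.y_pos_dvd h h5).1.ne'
  have hδ : (D.δ : ℂ) * D.δ = 1 := by exact_mod_cast D.δ_sq
  have : (((centralizer ({u} : Set G)).index : ℂ)) ^ 2 * (D.ch 1 - D.ch u) ^ 2 =
      Nat.card G * (if IsConj u t then (Nat.card A : ℂ) else 0) * (D.ch 1 * (D.ch 1 + D.δ : ℤ)) := by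
    rw [← e1]; field_simp
    push_cast
    linear_combination (exp := 1) (((centralizer ({u} : Set G)).index : ℂ) ^ 2 *
      (-(D.ch u) ^ 2 + 2 * D.ch u * D.ch 1 + D.δ * D.ch 1)) * hδ
  split_ifs at this ⊢
  · rw [mul_assoc] at this; exact_mod_cast this
  · rw [mul_zero, zero_mul] at this; exact_mod_cast this

theorem col {g : G} (hg : g ∉ X A) : 2 + 2 * D.ch g ^ 2 + (Nat.card A - 1) * (D.ch g + D.δ) ^ 2 ≤
    2 * Nat.card (centralizer ({g} : Set G)) := by
  set T := (Finset.univ.erase (1 : Dual A)).image D.θ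
  have hT : ∀ ψ ∈ T, ∃ l, l ≠ 1 ∧ D.θ l = ψ := fun ψ hψ => by
    obtain ⟨l, hl, e⟩ := Finset.mem_image.1 hψ
    exact ⟨l, (Finset.mem_erase.1 hl).1, e⟩
  have n1 : D.χ ∉ T := fun e => by obtain ⟨l, hl, e⟩ := hT _ e; exact D.θ_ne_χ l hl e
  have n2 : triv ⊤ ∉ insert D.χ T := fun e => by
    rcases Finset.mem_insert.1 e with e | e
    · exact D.χ_ne e.symm
    · obtain ⟨l, hl, e⟩ := hT _ e; exact D.θ_ne l hl e
  have e := sum_norm_sq_le_card_centralizer (insert (triv ⊤) (insert D.χ T)) id (fun ψ hψ => by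
    rcases Finset.mem_insert.1 hψ with rfl | hψ
    · exact mem_Irr_top.1 (triv_mem_Irr ⊤)
    rcases Finset.mem_insert.1 hψ with rfl | hψ
    · exact mem_Irr_top.1 D.χ_irr
    · obtain ⟨l, hl, rfl⟩ := hT _ hψ; exact mem_Irr_top.1 (D.θ_irr l hl)) (fun _ _ _ _ e => e) g
  rw [Finset.sum_insert n2, Finset.sum_insert n1, Finset.sum_congr rfl
    (g := fun _ => (((D.ch g + D.δ) ^ 2 : ℤ) : ℝ)) fun ψ hψ => by
      obtain ⟨l, hl, rfl⟩ := hT _ hψ
      rw [id, D.θ_eq_ch h h5 hl hg, Complex.norm_intCast, sq_abs]; simp, Finset.sum_const] at e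
  simp only [id, triv_of_mem (mem_top g), norm_one, D.χ_eq h h5, Complex.norm_intCast, sq_abs,
    nsmul_eq_mul] at e
  have e' : 1 ^ 2 + (D.ch g ^ 2 + T.card * (D.ch g + D.δ) ^ 2) ≤
      Nat.card (centralizer ({g} : Set G)) := by exact_mod_cast e
  have hc := Finset.card_le_mul_card_image (f := D.θ) (Finset.univ.erase (1 : Dual A)) 2
    fun ψ hψ => by
      obtain ⟨l, hl, rfl⟩ := hT _ hψ
      refine (Finset.card_le_card (t := {l, l⁻¹}) fun m hm => ?_).trans Finset.card_le_two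
      rw [Finset.mem_filter, Finset.mem_erase] at hm
      simpa using (D.θ_eq m hm.1.1 l hl).1 hm.2
  rw [Finset.card_erase_of_mem (Finset.mem_univ _), Finset.card_univ, card_dual h.comm] at hc
  change _ ≤ 2 * T.card at hc
  have hc' : (Nat.card A : ℤ) - 1 ≤ 2 * T.card := by omega
  nlinarith [sq_nonneg (D.ch g + D.δ)]

variable [IsSimpleGroup G]

theorem ch_lt {u : G} (hu : u ≠ 1) : D.ch u < D.ch 1 := by
  have h1 := (mem_Irr_top.mp D.χ_irr).isCharacter.norm_le_norm_one u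
  rw [D.χ_eq h h5, D.χ_eq h h5, Complex.norm_intCast, Complex.norm_intCast] at h1
  have h2 : |D.ch u| ≤ |D.ch 1| := by exact_mod_cast h1
  rw [abs_of_pos (D.x_pos h h5)] at h2
  refine lt_of_le_of_ne ((le_abs_self _).trans h2) fun e => ?_
  have hx' : u ∈ cfker ⊤ D.χ := (Irr.isChar D.χ_irr).mem_cfker.mpr
    ⟨trivial, by rw [D.χ_eq h h5, D.χ_eq h h5, e]⟩
  have hN : (cfker ⊤ D.χ).Normal := ⟨fun y hy g => CF.conj_mem_cfker (Irr.cf D.χ_irr) trivial hy⟩
  rcases hN.eq_bot_or_eq_top with h' | h'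
  · rw [h'] at hx'; exact hu hx'
  · exact D.χ_ne ((Irr.le_cfker_iff_eq_triv D.χ_irr).mp h'.ge)

include D in
theorem isConj {u : G} (hu : u * u = 1) (h1 : u ≠ 1) : IsConj u t := by
  by_contra hc
  have e := D.formula h h5 hu
  have := D.ch_lt h h5 h1
  have hi : (centralizer ({u} : Set G)).index ≠ 0 := FiniteIndex.index_ne_zero
  rw [if_neg hc, mul_eq_zero, pow_eq_zero_iff two_ne_zero, pow_eq_zero_iff two_ne_zero] at e
  omega

theorem order_formula : (Nat.card G : ℤ) * (D.ch 1 - D.ch t) ^ 2 =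
    Nat.card A * (D.ch 1 * (D.ch 1 + D.δ)) * (Nat.card (centralizer ({t} : Set G)) : ℤ) ^ 2 := by
  have e := D.formula h h5 h.inv.sq
  rw [if_pos (IsConj.refl t)] at e
  have hc : (Nat.card (centralizer ({t} : Set G)) : ℤ) * (centralizer ({t} : Set G)).index =
    Nat.card G := by exact_mod_cast (centralizer ({t} : Set G)).card_mul_index
  have h0 : (Nat.card G : ℤ) ≠ 0 := by exact_mod_cast Nat.card_pos.ne'
  refine mul_left_cancel₀ h0 ?_
  linear_combination (Nat.card (centralizer ({t} : Set G)) : ℤ) ^ 2 * e -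
    (D.ch 1 - D.ch t) ^ 2 * (Nat.card G + (Nat.card (centralizer ({t} : Set G)) : ℤ) *
      (centralizer ({t} : Set G)).index) * hc

theorem four_dvd (hG : ¬ IsMulCommutative G) : 4 ∣ D.ch 1 - D.ch t := by
  have hp : commutator G = ⊤ := by
    refine (inferInstance : (commutator G).Normal).eq_bot_or_eq_top.resolve_left fun e => hG ⟨⟨?_⟩⟩
    intro a b
    have := commutator_mem_commutator (mem_top a) (mem_top b)
    rw [← commutator_def, e, mem_bot, commutatorElement_eq_one_iff_mul_comm] at this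
    exact this
  obtain ⟨b, hb⟩ := CL.D1T.exists_four_mul hp (mem_Irr_top.mp D.χ_irr).isCharacter h.inv.sq
  rw [D.χ_eq h h5, D.χ_eq h h5] at hb
  exact ⟨b, by exact_mod_cast hb⟩

end Dat

end CL.SCS
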