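import Mathlib
import Cfsg.Agent.INV.SCS.Val

/-! Restriction of the exceptional characters to a second strongly self-centralizing subgroup. -/

set_option autoImplicit false
open Cfsg CL.PF CL.Char CL.Odd Subgroup
open scoped Classical ComplexConjugate

namespace CL.SCS

theorem level_le {D : Type*} [Fintype D] (f : D → ℤ) (α : ℤ) :
    ((Finset.univ.filter fun d => f d = α).card : ℤ) * (Finset.univ.filter fun d => ¬ f d = α).card ≤
      Fintype.card D * ∑ d, f d ^ 2 - (∑ d, f d) ^ 2 := by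
  have h1 : ∑ a, ∑ b, (f a - f b) ^ 2 = 2 * (Fintype.card D * ∑ d, f d ^ 2 - (∑ d, f d) ^ 2) := by
    simp only [sub_sq, Finset.sum_add_distrib, Finset.sum_sub_distrib, Finset.sum_const,
      Finset.card_univ, nsmul_eq_mul, ← Finset.mul_sum, ← Finset.sum_mul]
    ring
  have h2 : ∀ a b, (if f a = α then (1 : ℤ) else 0) * (if ¬ f b = α then 1 else 0) +
      (if ¬ f a = α then (1 : ℤ) else 0) * (if f b = α then 1 else 0) ≤ (f a - f b) ^ 2 := by
    intro a b
    by_cases ha : f a = α <;> by_cases hb : f b = α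
    · simp [ha, hb]
    · have : 0 < (f a - f b) ^ 2 := sq_pos_of_ne_zero (by omega)
      rw [if_pos ha, if_pos hb, if_neg (not_not.2 ha), if_neg hb]; omega
    · have : 0 < (f a - f b) ^ 2 := sq_pos_of_ne_zero (by omega)
      rw [if_neg ha, if_pos ha, if_neg (not_not.2 hb), if_pos hb]; omega
    · simp only [ha, hb]; simpa using sq_nonneg _
  have h3 := Finset.sum_le_sum (s := Finset.univ) fun a _ =>
    Finset.sum_le_sum (s := Finset.univ) fun b _ => h2 a b
  rw [h1] at h3
  simp only [Finset.sum_add_distrib, ← Finset.mul_sum, ← Finset.sum_mul, Finset.sum_boole] at h3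
  linarith

theorem four_le_card {D : Type*} [Group D] [Fintype D] {σ : D → D} (hσ : ∀ a, σ (σ a) = a⁻¹)
    (ho : ∀ a : D, a ≠ 1 → a ≠ a⁻¹) (p : D → Prop) (hp : ∀ a, p a → p (σ a)) {a : D} (a1 : a ≠ 1)
    (ha : p a) : 4 ≤ (Finset.univ.filter p).card := by
  have ab : a ≠ σ a := fun e => ho a a1 (by rw [← hσ a, ← e, ← e])
  have b1 : σ a ≠ 1 := fun e => ho a a1 (by
    have e1 : σ 1 = a⁻¹ := by rw [← e, hσ]
    have e2 : σ a⁻¹ = 1 := by rw [← e1, hσ, inv_one]
    rw [← e1, ← e2, hσ, inv_inv])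
  have ab' : a ≠ (σ a)⁻¹ := fun e => ab (by
    have e1 : σ a⁻¹ = a := by rw [← hσ a, hσ (σ a), ← e]
    rw [← e1, hσ, inv_inv, e1])
  have : ({a, a⁻¹, σ a, (σ a)⁻¹} : Finset D).card = 4 := by
    rw [Finset.card_eq_four]
    exact ⟨_, _, _, _, ho a a1, ab, ab', fun e => ab' (by rw [← e, inv_inv]),
      fun e => ab (inv_injective e), ho _ b1, rfl⟩
  rw [← this]
  refine Finset.card_le_card fun x hx => Finset.mem_filter.2 ⟨Finset.mem_univ _, ?_⟩
  simp only [Finset.mem_insert, Finset.mem_singleton] at hx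
  rcases hx with rfl | rfl | rfl | rfl
  · exact ha
  · rw [← hσ]; exact hp _ (hp _ ha)
  · exact hp _ ha
  · rw [← hσ]; exact hp _ (hp _ (hp _ ha))

variable {G : Type*} [Group G] [Finite G]

/-- an integer-valued virtual character of small norm is constant on `B^#` -/
theorem const_of_lt {B : Subgroup G} {w : G} (hc : ∀ a ∈ B, ∀ b ∈ B, a * b = b * a)
    (hw : w ∈ normalizer (B : Set G)) (hi : Inv B (w * w)) {ψ : G → ℂ}
    (hψ : ψ ∈ ZIrr (⊤ : Subgroup G)) (v : G → ℤ) (hv : ∀ b ∈ B, ψ b = v b)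
    (hlt : ∑ b ∈ (fs (B : Set G)).erase 1, v b ^ 2 < 4 * (Nat.card B - 4)) :
    ∃ c : ℤ, (∀ b ∈ B, b ≠ 1 → v b = c) ∧ (Nat.card B : ℤ) ∣ v 1 - c := by
  have hM : ∀ l : Dual B, ∃ k : ℤ, ip B ψ (lin l) = k := fun l => by
    have := ZIrr.exists_int_ip (ZIrr.res_mem le_top hψ) (Irr.zirr (lin_mem_Irr l))
    rwa [ip_res_left le_rfl] at this
  choose M hM using hM
  have hs : ∀ l : Dual B, ∃ l' : Dual B, lin l' = cj w (lin l) := fun l =>
    (Irr.isChar (Irr.cj_mem (lin_mem_Irr l) hw)).exists_lin (by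
      rw [cj_apply, mul_one, mul_inv_cancel, lin_apply_one]) |>.imp fun _ e => e.symm
  choose σ hσ using hs
  have hσσ : ∀ l, σ (σ l) = l⁻¹ := fun l => Dual.ext fun x hx => by
    rw [hσ, cj_apply, hσ, cj_apply, lin_inv, Pi.star_apply, RCLike.star_def,
      ← (Irr.isChar (lin_mem_Irr l)).apply_inv, ← hi.inv x hx]
    congr 1; group
  have hMσ : ∀ l, M (σ l) = M l := fun l => by
    have := hM (σ l)
    rw [hσ, ← CF.cj_eq (ZIrr.cf hψ) (mem_top w), ip_cj hw, hM] at this
    exact_mod_cast this.symm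
  have e1 : v 1 = ∑ l, M l := by
    have := eq_sum_lin hc (ZIrr.cf hψ) B.one_mem
    simp only [hM, lin_apply_one, mul_one, hv 1 B.one_mem] at this
    exact_mod_cast this
  have e2 : ∑ b ∈ fs (B : Set G), v b ^ 2 = Nat.card B * ∑ l, M l ^ 2 := by
    have := CF.ip_eq_sum ψ (CF.res_mem (le_top (a := B)) (ZIrr.cf hψ))
    rw [Irr_eq_image_lin hc, Finset.sum_image fun _ _ _ _ e => lin_injective e,
      ip_res_right le_rfl, ip, inv_mul_eq_iff_eq_mul₀ (card_ne_zero_complex _),
      Finset.sum_congr rfl (g := fun b => (v b : ℂ) ^ 2) fun b hb => by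
        rw [hv b (by simpa using hb), map_intCast, pow_two]] at this
    simp only [ip_res_left le_rfl, hM, map_intCast, ← pow_two] at this
    exact_mod_cast this
  rw [← Finset.add_sum_erase _ _ (a := 1) (by simpa using B.one_mem), e1] at e2
  have hconst : ∀ l m : Dual B, l ≠ 1 → m ≠ 1 → M l = M m := fun l m hl hm => by
    by_contra hne
    have h1 : 4 ≤ (Finset.univ.filter fun d => M d = M l).card := by
      convert four_le_card hσσ (fun _ => ne_inv hc hi.odd) (fun d => M d = M l)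
        (fun a ha => by rw [hMσ, ha]) hl rfl
    have h2 : 4 ≤ (Finset.univ.filter fun d => ¬ M d = M l).card := by
      convert four_le_card hσσ (fun _ => ne_inv hc hi.odd) (fun d => ¬ M d = M l)
        (fun a ha => by rwa [hMσ]) hm (Ne.symm hne)
    have h3 := level_le M (M l)
    have h4 := Finset.card_filter_add_card_filter_not (s := Finset.univ) (fun d => M d = M l)
    rw [Finset.card_univ] at h4
    rw [card_dual hc] at h3 h4
    rw [← h4] at hlt e2 h3
    push_cast at hlt e2 h3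
    zify at h1 h2
    nlinarith [mul_nonneg (sub_nonneg.2 h1) (sub_nonneg.2 h2)]
  by_cases hex : ∃ l : Dual B, l ≠ 1
  · obtain ⟨l, hl⟩ := hex
    obtain ⟨h1, h2⟩ := fourier hc (ZIrr.cf hψ) (r := M l) (c := (M 1 - M l : ℤ))
      (fun m hm => by rw [hM, hconst m l hm hl]) (by rw [hM]; push_cast; ring)
    refine ⟨M 1 - M l, fun b hb b1 => ?_, M l, ?_⟩
    · have := h1 b hb b1
      rw [hv b hb] at this; exact_mod_cast this
    · rw [hv 1 B.one_mem] at h2
      have : v 1 = M l * Nat.card B + (M 1 - M l) := by exact_mod_cast h2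
      rw [this]; ring
  · push Not at hex
    have : Nat.card B = 1 := by
      rw [← card_dual hc]; exact Fintype.card_eq_one_iff.2 ⟨1, hex⟩
    have h0 : 0 ≤ ∑ b ∈ (fs (B : Set G)).erase 1, v b ^ 2 := by positivity
    rw [this] at hlt; omega

namespace Dat
variable {A : Subgroup G} {t : G} (D : Dat A) (h : Two A t) (h5 : 4 ≤ Nat.card A)
include h h5

theorem sum_compl [Fintype G] (i j : ℤ) :
    2 * Nat.card A * ∑ g ∈ (fs (X A))ᶜ, (D.ch g + i * D.δ) * (D.ch g + j * D.δ) =
      Nat.card G * (2 * Nat.card A * (1 + i * j) - (1 + i) * (1 + j) * (Nat.card A - 1)) := by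
  have e1 := Finset.sum_add_sum_compl (fs (X A)) fun g => (D.ch g + i * D.δ) * (D.ch g + j * D.δ)
  have e2 : ∑ g, (D.ch g + i * D.δ) * (D.ch g + j * D.δ) = Nat.card G * (1 + i * j) := by
    rw [Finset.sum_congr rfl (g := fun g => D.ch g ^ 2 + (i + j) * D.δ * D.ch g + i * j)
      fun g _ => by linear_combination i * j * D.δ_sq, Finset.sum_add_distrib,
      Finset.sum_add_distrib, ← Finset.mul_sum, D.sum_ch h h5, D.sum_ch_sq h h5, Finset.sum_const,
      Finset.card_univ, Nat.card_eq_fintype_card, nsmul_eq_mul]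
    ring
  have e3 := h.ssc.sum_X_const (fun g => (D.ch g + i * D.δ) * (D.ch g + j * D.δ))
    (fun k g => by simp only [D.ch_conj h h5]) ((1 + i) * (1 + j)) fun a ha a1 => by
      rw [D.ch_X h h5 (mem_X ha a1)]; linear_combination (1 + i) * (1 + j) * D.δ_sq
  rw [SSC.card_normalizer, h.idx] at e3
  push_cast at e3
  linear_combination 2 * Nat.card A * (e1.trans e2) - e3

theorem budget (i j : ℤ) (hq : ∀ z : ℤ, 0 ≤ (z + i * D.δ) * (z + j * D.δ)) (S : Finset G)
    (hS : ∀ g ∈ S, g ∉ X A) :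
    2 * Nat.card A * ∑ g ∈ S, (D.ch g + i * D.δ) * (D.ch g + j * D.δ) ≤
      Nat.card G * (2 * Nat.card A * (1 + i * j) - (1 + i) * (1 + j) * (Nat.card A - 1)) := by
  have := Fintype.ofFinite G
  rw [← D.sum_compl h h5]
  refine mul_le_mul_of_nonneg_left (Finset.sum_le_sum_of_subset_of_nonneg
    (fun g hg => by simpa using hS g hg) fun g _ _ => hq _) (by positivity)

omit h h5 in
theorem succ_nonneg (i z : ℤ) : 0 ≤ (z + i * D.δ) * (z + (i + 1) * D.δ) := by
  rcases D.hδ with e | e <;> rw [e]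
  · rcases le_or_gt 0 (z + i) with h | h <;> nlinarith
  · rcases le_or_gt 0 (z - i - 1) with h | h <;> nlinarith

/-- the exceptional characters vanish on `B^#`, or `|A| = 5` and `χ` vanishes there -/
theorem res_four {B : Subgroup G} (hB : SSC B) (he : B.relIndex (normalizer (B : Set G)) = 4)
    (hm : 9 ≤ Nat.card B) (hAB : ∀ g ∈ X B, g ∉ X A) :
    ((∀ b ∈ B, b ≠ 1 → D.ch b = -D.δ) ∧ (Nat.card B : ℤ) ∣ D.ch 1 + D.δ) ∨
      (Nat.card A = 5 ∧ (∀ b ∈ B, b ≠ 1 → D.ch b = 0) ∧ (Nat.card B : ℤ) ∣ D.ch 1) := by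
  obtain ⟨w, hw, hi⟩ := hB.exists_four he (by omega)
  obtain ⟨l, -, hl, -⟩ := exists_two_classes h.comm h5
  have hn := h.inv.odd
  have g0 : (0 : ℤ) < Nat.card G := by exact_mod_cast Nat.card_pos
  have hb : ∀ i j : ℤ, (∀ z : ℤ, 0 ≤ (z + i * D.δ) * (z + j * D.δ)) →
      (Nat.card G : ℤ) * (Nat.card A * ∑ b ∈ (fs (B : Set G)).erase 1,
        (D.ch b + i * D.δ) * (D.ch b + j * D.δ)) + 4 * Nat.card B * Nat.card A *
          ((D.ch 1 + i * D.δ) * (D.ch 1 + j * D.δ)) ≤ Nat.card G * (2 * Nat.card B *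
        (2 * Nat.card A * (1 + i * j) - (1 + i) * (1 + j) * (Nat.card A - 1))) := fun i j hq => by
    have e1 := D.budget h h5 i j hq (insert 1 (fs (X B))) fun g hg => by
      rcases Finset.mem_insert.1 hg with rfl | hg
      · exact fun e => X_ne_one e rfl
      · exact hAB g (by simpa using hg)
    rw [Finset.sum_insert (by simpa using fun e => X_ne_one e rfl)] at e1
    have e2 := hB.sum_X (fun g => (D.ch g + i * D.δ) * (D.ch g + j * D.δ))
      fun k g => by simp only [D.ch_conj h h5]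
    rw [SSC.card_normalizer, he, nsmul_eq_mul, nsmul_eq_mul] at e2
    push_cast at e2
    have := mul_le_mul_of_nonneg_left e1 (by positivity : (0 : ℤ) ≤ 2 * Nat.card B)
    linear_combination this - Nat.card A * e2
  have y0 := (D.y_pos_dvd h h5).1
  have n5 : (5 : ℤ) ≤ Nat.card A := by obtain ⟨k, hk⟩ := hn; omega
  have m9 : (9 : ℤ) ≤ Nat.card B := by exact_mod_cast hm
  have b1 : (Nat.card A : ℤ) * ∑ b ∈ (fs (B : Set G)).erase 1, (D.ch b + D.δ) ^ 2 <
      8 * Nat.card B := by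
    have := hb 1 1 fun z => mul_self_nonneg _
    simp only [one_mul, ← pow_two] at this
    refine lt_of_mul_lt_mul_left (a := (Nat.card G : ℤ)) ?_ g0.le
    have : (0 : ℤ) < 4 * Nat.card B * Nat.card A * (D.ch 1 + D.δ) ^ 2 := by positivity
    linarith
  have s0 : 0 ≤ ∑ b ∈ (fs (B : Set G)).erase 1, (D.ch b + D.δ) ^ 2 := by positivity
  obtain ⟨c, hc, hd⟩ := const_of_lt (fun _ ha _ hb => hB.comm ha hb) hw hi
    (Irr.zirr (D.θ_irr l hl)) (fun g => D.ch g + D.δ) (fun b hb => D.θ_eq_ch h h5 hl (by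
      by_cases e : b = 1
      · exact fun e' => X_ne_one e' e
      · exact hAB b (mem_X hb e))) (by nlinarith)
  have hs : ∀ i j : ℤ, ∑ b ∈ (fs (B : Set G)).erase 1, (D.ch b + i * D.δ) * (D.ch b + j * D.δ) =
      (Nat.card B - 1) * ((c + (i - 1) * D.δ) * (c + (j - 1) * D.δ)) := fun i j => by
    rw [Finset.sum_congr rfl (g := fun _ => (c + (i - 1) * D.δ) * (c + (j - 1) * D.δ)) fun b hb => by
      rw [Finset.mem_erase] at hb
      rw [← hc b (by simpa using hb.2) hb.1]; ring, Finset.sum_const, hB.card_erase, nsmul_eq_mul,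
      Nat.cast_sub (by omega)]
    simp
  have hb' : ∀ i : ℤ, (Nat.card A : ℤ) * ((Nat.card B - 1) * ((c + (i - 1) * D.δ) *
      (c + i * D.δ))) ≤ 2 * Nat.card B * (2 * Nat.card A * (1 + i * (i + 1)) -
        (1 + i) * (1 + (i + 1)) * (Nat.card A - 1)) := fun i => by
    have := hb i (i + 1) (D.succ_nonneg i)
    rw [hs, add_sub_cancel_right] at this
    refine le_of_mul_le_mul_left ?_ g0
    have : (0 : ℤ) ≤ 4 * Nat.card B * Nat.card A *
      ((D.ch 1 + i * D.δ) * (D.ch 1 + (i + 1) * D.δ)) :=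
        mul_nonneg (by positivity) (D.succ_nonneg i _)
    linarith
  have c1 : c ^ 2 < 2 := by
    have := hs 1 1
    simp only [one_mul, ← pow_two, sub_self, zero_mul, add_zero] at this
    rw [this] at b1
    by_contra hc2
    push Not at hc2
    have m0 : (0 : ℤ) ≤ Nat.card B - 1 := by omega
    nlinarith [mul_le_mul_of_nonneg_left hc2 m0,
      mul_le_mul_of_nonneg_right n5 (mul_nonneg m0 (sq_nonneg c))]
  have hδ := D.δ_sq
  have c2 : c = 0 ∨ c = D.δ ∨ c = -D.δ := by
    have : -1 ≤ c ∧ c ≤ 1 := by constructor <;> nlinarith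
    rcases D.hδ with e | e <;> omega
  rcases c2 with rfl | rfl | rfl
  · exact Or.inl ⟨fun b hb b1 => by have := hc b hb b1; omega, by simpa using hd⟩
  · refine Or.inr ⟨?_, fun b hb b1 => by have := hc b hb b1; omega,
      by simpa using hd⟩
    have := hb' 1
    rw [show (D.δ + (1 - 1) * D.δ) * (D.δ + 1 * D.δ) = 2 by linear_combination 2 * hδ] at this
    have : (Nat.card A : ℤ) < 7 := by nlinarith
    obtain ⟨k, hk⟩ := hn; omega
  · have := hb' 0
    rw [show (-D.δ + (0 - 1) * D.δ) * (-D.δ + 0 * D.δ) = 2 by linear_combination 2 * hδ] at this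
    nlinarith

end Dat

end CL.SCS
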