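import Mathlib
import Cfsg.Agent.INV.SCS.Res
import Cfsg.Agent.INV.SCS.Num

/-! Self-centralization systems of type `(2, 4, 4)`: the order of the group. -/

set_option autoImplicit false
open Cfsg CL.PF CL.Char CL.Odd Subgroup
open scoped Classical ComplexConjugate

namespace CL.SCS

theorem num_big {n p q x y a δ s : ℤ} (hn : 5 ≤ n) (hno : Odd n) (hp : 9 ≤ p) (hq : 9 ≤ q)
    (hp4 : p % 4 = 1) (hq4 : q % 4 = 1) (hs : 22 ≤ p + q) (hδ : δ = 1 ∨ δ = -1)
    (hy : x + δ = p * q * y) (y0 : 0 < y) (hnx : n ∣ x - δ) (hco : IsCoprime (p * q) n)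
    (hpq : IsCoprime p q) (hord : x * y * s ^ 2 ≤ 3 * n * (p * q)) (hs1 : n ∣ s ^ 2 - 1)
    (kp : p ∣ n * x * q * y * s ^ 2 - 4) (kq : q ∣ n * x * p * y * s ^ 2 - 4) (hd : 0 < x - a)
    (hdv : s * (x - a) ∣ x * y * s ^ 2) (h4 : 4 ∣ x - a)
    (col : 2 + 2 * a ^ 2 + (n - 1) * (a + δ) ^ 2 ≤ 2 * (s * (x - a)))
    (tr : |a| * n ≤ x + (n - 1) * δ)
    (hpc : (2 * n + (p + q) - 4) * (x - a) ^ 2 < 4 * n * (x * (x + δ))) (s2 : 2 ≤ s) : False := by
  obtain ⟨j, hj⟩ := hs1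
  have hj' : s ^ 2 = 1 + j * n := by linear_combination hj
  have j1 : 1 ≤ j := by
    by_contra h; push Not at h
    nlinarith
  have hP : 117 ≤ p * q := by nlinarith
  have Pm : p * q % 4 = 1 := by rw [Int.mul_emod, hp4, hq4]; rfl
  have hn1 : 1 + n ≤ s ^ 2 := by nlinarith
  obtain rfl : y = 1 := by
    by_contra h
    have h1 : p * q * 2 ≤ p * q * y := mul_le_mul_of_nonneg_left (by omega) (by omega)
    have h2 : (p * q * 2 - 1) * 2 ≤ x * y := mul_le_mul (by omega) (by omega) (by omega) (by omega)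
    have h3 : (p * q * 2 - 1) * 2 * (1 + n) ≤ x * y * s ^ 2 :=
      mul_le_mul h2 hn1 (by omega) (by omega)
    nlinarith
  rw [mul_one] at hy hord hdv kp kq
  have j3 : j ≤ 3 := by
    by_contra h; push Not at h
    have h1 : 1 + 4 * n ≤ s ^ 2 := by nlinarith
    have h3 : (p * q - 1) * (1 + 4 * n) ≤ x * s ^ 2 := mul_le_mul (by omega) h1 (by omega) (by omega)
    nlinarith
  by_cases ha : a = 0
  · subst ha
    obtain rfl : δ = 1 := by omega
    obtain rfl : x = p * q - 1 := by omega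
    refine num_big_zero hn hno hp hq hp4 hq4 hs hj' j1 j3 (by rwa [sub_sub] at hnx) hco
      (hpq.mul_dvd ?_ ?_) (by simpa using hpc)
    · have := dvd_sub (dvd_mul_right p (n * s ^ 2 * (q ^ 2 + 1))) kp
      convert this using 1; ring
    · have := dvd_sub (dvd_mul_right q (n * s ^ 2 * (p ^ 2 + 1))) kq
      convert this using 1; ring
  · refine num_big_ne hn hδ (by omega) s2 hj' j3 hd ?_ ha hnx col tr
    rw [show x * s ^ 2 = s * (x * s) by ring] at hdv
    exact (mul_dvd_mul_iff_left (by omega)).1 hdv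

variable {G : Type*} [Group G] [Finite G]

/-- a self-centralization system of type `(2, 4, 4)` -/
structure Sys (A B C : Subgroup G) (t : G) : Prop where
  two : Two A t
  hB : SSC B
  hC : SSC C
  eB : B.relIndex (normalizer (B : Set G)) = 4
  eC : C.relIndex (normalizer (C : Set G)) = 4
  nA : 5 ≤ Nat.card A
  nB : 5 < Nat.card B
  nC : 5 < Nat.card C
  AB : ∀ g : G, A.map (MulAut.conj g).toMonoidHom ≠ B
  AC : ∀ g : G, A.map (MulAut.conj g).toMonoidHom ≠ C
  BC : ∀ g : G, B.map (MulAut.conj g).toMonoidHom ≠ C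
  ord : Nat.card G ≤ 3 * Nat.card A ^ 2 * Nat.card B ^ 2 * Nat.card C ^ 2

/-- the non-identity elements not conjugate into `A`, `B`, `C` -/
def Rest (A B C : Subgroup G) : Set G := {g | g ≠ 1 ∧ g ∉ X A ∧ g ∉ X B ∧ g ∉ X C}

theorem SSC.mod_four {B : Subgroup G} (hB : SSC B) (e : B.relIndex (normalizer (B : Set G)) = 4) :
    Nat.card B % 4 = 1 := by
  have := hB.relIndex_dvd
  rw [e] at this
  have : 0 < Nat.card B := Nat.card_pos
  omega

theorem SSC.dvd_sub {B : Subgroup G} (hB : SSC B) {e : ℕ}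
    (he : B.relIndex (normalizer (B : Set G)) = e) {M : ℤ} (h : (Nat.card G : ℤ) = Nat.card B * M) :
    (Nat.card B : ℤ) ∣ M - e := by
  obtain ⟨k, hk⟩ := hB.index_modEq
  have h1 := (normalizer (B : Set G)).card_mul_index
  rw [SSC.card_normalizer, he] at h1
  have b0 : 0 < Nat.card B := Nat.card_pos
  zify [b0] at hk h1
  have : M = e * (normalizer (B : Set G)).index :=
    mul_left_cancel₀ (a := (Nat.card B : ℤ)) (by omega) (by linear_combination h1.trans h |>.symm)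
  exact ⟨e * (k - 1), by rw [this]; linear_combination e * hk⟩

theorem SSC.sum_val {B : Subgroup G} (hB : SSC B) {v : G → ℤ} {c : ℤ}
    (h : ∀ b ∈ B, b ≠ 1 → v b = c) : ∑ b ∈ fs (B : Set G), v b = v 1 + (Nat.card B - 1) * c := by
  rw [← Finset.add_sum_erase _ _ (a := 1) (by simpa using B.one_mem), Finset.sum_congr rfl
    (g := fun _ => c) fun b hb => by
      rw [Finset.mem_erase] at hb; exact h b (by simpa using hb.2) hb.1, Finset.sum_const,
    hB.card_erase, nsmul_eq_mul, Nat.cast_sub Nat.card_pos]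
  simp

namespace Sys
variable {A B C : Subgroup G} {t : G} (S : Sys A B C t)
include S

theorem symm : Sys A C B t :=
  ⟨S.two, S.hC, S.hB, S.eC, S.eB, S.nA, S.nC, S.nB, S.AC, S.AB, fun g e => S.BC g⁻¹ (by
    rw [← e, map_map]; ext x; simp [mul_assoc]), by have := S.ord; linarith⟩

theorem n4 : 4 ≤ Nat.card A := by have := S.nA; omega

theorem nine : 9 ≤ Nat.card B := by have := S.hB.mod_four S.eB; have := S.nB; omega

theorem copBC : (Nat.card B).Coprime (Nat.card C) := S.hB.coprime_card S.hC S.BC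

theorem copAB : (Nat.card A).Coprime (Nat.card B) := S.two.ssc.coprime_card S.hB S.AB

theorem neBC : Nat.card B ≠ Nat.card C := fun e => by
  have h := S.copBC
  rw [e, Nat.coprime_self] at h
  have := S.nC; omega

theorem sum22 : 22 ≤ Nat.card B + Nat.card C := by
  have := S.hB.mod_four S.eB; have := S.hC.mod_four S.eC
  have := S.nine; have := S.symm.nine; have := S.neBC; omega

theorem XBA {g : G} (hg : g ∈ X B) : g ∉ X A := fun h => S.two.ssc.disjoint_X S.hB S.AB h hg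

theorem split [Fintype G] (F : G → ℤ) (hF : ∀ k g, F (k * g * k⁻¹) = F g) {c₁ c₂ c₃ : ℤ}
    (h₁ : ∀ a ∈ A, a ≠ 1 → F a = c₁) (h₂ : ∀ a ∈ B, a ≠ 1 → F a = c₂)
    (h₃ : ∀ a ∈ C, a ≠ 1 → F a = c₃) : ∃ s₁ s₂ s₃ : ℤ,
      ∑ g, F g = F 1 + s₁ + s₂ + s₃ + ∑ g ∈ fs (Rest A B C), F g ∧
      2 * Nat.card A * s₁ = Nat.card G * ((Nat.card A - 1) * c₁) ∧
      4 * Nat.card B * s₂ = Nat.card G * ((Nat.card B - 1) * c₂) ∧
      4 * Nat.card C * s₃ = Nat.card G * ((Nat.card C - 1) * c₃) := by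
  have e1 := S.two.ssc.sum_X_const F hF c₁ h₁
  have e2 := S.hB.sum_X_const F hF c₂ h₂
  have e3 := S.hC.sum_X_const F hF c₃ h₃
  rw [SSC.card_normalizer] at e1 e2 e3
  rw [S.two.idx] at e1; rw [S.eB] at e2; rw [S.eC] at e3
  refine ⟨_, _, _, ?_, by exact_mod_cast e1, by exact_mod_cast e2, by exact_mod_cast e3⟩
  have hs : ∀ Y : Set G, ∑ g ∈ fs Y, F g = ∑ g, if g ∈ Y then F g else 0 := fun Y => by
    rw [← Finset.sum_filter]; congr 1; ext g; simp
  rw [hs, hs, hs, hs, ← Fintype.sum_ite_eq' 1 F]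
  simp only [← Finset.sum_add_distrib]
  refine Finset.sum_congr rfl fun g _ => ?_
  have a1 := @X_ne_one _ _ A g
  have a2 := @X_ne_one _ _ B g
  have a3 := @X_ne_one _ _ C g
  have a4 := S.XBA (g := g)
  have a5 := S.symm.XBA (g := g)
  have a6 := S.hB.disjoint_X S.hC S.BC (g := g)
  by_cases b0 : g = 1 <;> by_cases b1 : g ∈ X A <;> by_cases b2 : g ∈ X B <;>
    by_cases b3 : g ∈ X C <;> simp_all [Rest]

variable [IsSimpleGroup G] (D : Dat A)

include D in
theorem ff_B {b : G} (hb : b ∈ B) (b1 : b ≠ 1) : ff t b = Nat.card B := by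
  obtain ⟨u, hu⟩ := S.hB.exists_inv (by rw [S.eB]; decide)
  exact S.hB.ff_of_isConj hu (D.isConj S.two S.n4 hu.sq hu.ne).symm hb b1

theorem pc : (2 * (Nat.card A : ℤ) + (Nat.card B + Nat.card C) - 4) * (D.ch 1 - D.ch t) ^ 2 <
    4 * Nat.card A * (D.ch 1 * (D.ch 1 + D.δ)) := by
  have := Fintype.ofFinite G
  obtain ⟨s₁, s₂, s₃, e, e1, e2, e3⟩ := S.split (fun g => (ff t g : ℤ))
    (fun k g => by simp only [ff_conj])
    (fun a ha a1 => by rw [S.two.ssc.ff_of_isConj S.two.inv (IsConj.refl t) ha a1])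
    (fun a ha a1 => by rw [S.ff_B D ha a1]) (fun a ha a1 => by rw [S.symm.ff_B D ha a1])
  have f := D.formula S.two S.n4 S.two.inv.sq
  rw [if_pos (IsConj.refl t)] at f
  have e0 : ∑ g, (ff t g : ℤ) = (centralizer ({t} : Set G)).index ^ 2 := by exact_mod_cast sum_ff t
  simp only [e0, ff_one S.two.inv.sq] at e
  have r0 : 0 ≤ ∑ g ∈ fs (Rest A B C), (ff t g : ℤ) := by positivity
  have k0 : (0 : ℤ) < (centralizer ({t} : Set G)).index := by
    exact_mod_cast Nat.pos_of_ne_zero FiniteIndex.index_ne_zero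
  have a0 : (Nat.card A : ℤ) ≠ 0 := by exact_mod_cast Nat.card_pos.ne'
  have b0 : (Nat.card B : ℤ) ≠ 0 := by exact_mod_cast Nat.card_pos.ne'
  have c0 : (Nat.card C : ℤ) ≠ 0 := by exact_mod_cast Nat.card_pos.ne'
  have g0 : (0 : ℤ) < Nat.card G := by exact_mod_cast Nat.card_pos
  have e1' : 2 * s₁ = Nat.card G * (Nat.card A - 1) := mul_left_cancel₀ a0 (by linear_combination e1)
  have e2' : 4 * s₂ = Nat.card G * (Nat.card B - 1) := mul_left_cancel₀ b0 (by linear_combination e2)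
  have e3' : 4 * s₃ = Nat.card G * (Nat.card C - 1) := mul_left_cancel₀ c0 (by linear_combination e3)
  have d0 : 0 < (D.ch 1 - D.ch t) ^ 2 := pow_pos (sub_pos.2 (D.ch_lt S.two S.n4 S.two.inv.ne)) 2
  have h1 : (Nat.card G : ℤ) * (2 * (Nat.card A : ℤ) + (Nat.card B + Nat.card C) - 4) <
      4 * (centralizer ({t} : Set G)).index ^ 2 := by linarith
  refine lt_of_mul_lt_mul_left (a := (Nat.card G : ℤ)) ?_ g0.le
  have := mul_lt_mul_of_pos_right h1 d0
  linarith

theorem main_B : (∀ b ∈ B, b ≠ 1 → D.ch b = -D.δ) ∧ (Nat.card B : ℤ) ∣ D.ch 1 + D.δ := by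
  refine (D.res_four S.two S.n4 S.hB S.eB S.nine fun g => S.XBA).resolve_right ?_
  rintro ⟨h5, h0, hd⟩
  obtain ⟨u, hu⟩ := S.hB.exists_inv (by rw [S.eB]; decide)
  have pc := S.pc D
  have nd := D.n_dvd S.two S.n4
  rw [h5] at pc nd
  have tr := hu.trace_le (Irr.isChar D.χ_irr) (a := D.ch t) (S := D.ch 1)
    (by rw [D.χ_eq S.two S.n4, D.ch_of_isConj S.two S.n4 (D.isConj S.two S.n4 hu.sq hu.ne)]) (by
      have := S.hB.sum_val h0
      simp only [D.χ_eq S.two S.n4]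
      rw [mul_zero, add_zero] at this
      exact_mod_cast this)
  exact num_five (by exact_mod_cast S.nine) (by exact_mod_cast S.sum22) (D.x_pos S.two S.n4) hd tr
    D.hδ nd pc

omit [IsSimpleGroup G] in
theorem cop_xy : IsCoprime (D.ch 1) (D.ch 1 + D.δ) :=
  ⟨-D.δ, D.δ, by linear_combination D.δ_sq⟩

omit [IsSimpleGroup G] in
theorem cop_nx : IsCoprime (Nat.card A : ℤ) (D.ch 1) := by
  obtain ⟨k, hk⟩ := D.n_dvd S.two S.n4
  exact ⟨-D.δ * k, D.δ, by linear_combination D.δ_sq + D.δ * hk⟩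

omit [IsSimpleGroup G] in
theorem cop_ny : IsCoprime (Nat.card A : ℤ) (D.ch 1 + D.δ) := by
  obtain ⟨k, hk⟩ := D.n_dvd S.two S.n4
  obtain ⟨m, hm⟩ := S.two.inv.odd
  have hm' : (Nat.card A : ℤ) = 2 * m + 1 := by exact_mod_cast hm
  exact ⟨1 + D.δ * m * k, -D.δ * m, by
    linear_combination hm' - 2 * m * D.δ_sq - D.δ * m * hk⟩

omit [IsSimpleGroup G] in
theorem cop_cent {u : G} (hu : u * u = 1) (h1 : u ≠ 1) :
    IsCoprime (Nat.card (centralizer ({u} : Set G)) : ℤ) (Nat.card A * (Nat.card B * Nat.card C)) := by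
  refine IsCoprime.mul_right ?_ (IsCoprime.mul_right ?_ ?_) <;> rw [Nat.isCoprime_iff_coprime]
  · exact S.two.ssc.coprime_cent h1 (not_mem_X_of_sq S.two.inv.odd hu)
  · exact S.hB.coprime_cent h1 (not_mem_X_of_sq (S.hB.odd_card (by rw [S.eB]; decide)) hu)
  · exact S.hC.coprime_cent h1 (not_mem_X_of_sq (S.hC.odd_card (by rw [S.eC]; decide)) hu)

theorem exists_y : ∃ y : ℤ, 0 < y ∧ D.ch 1 + D.δ = Nat.card B * Nat.card C * y := by
  obtain ⟨y, hy⟩ := (Nat.isCoprime_iff_coprime.2 S.copBC).mul_dvd (S.main_B D).2 (S.symm.main_B D).2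
  refine ⟨y, ?_, hy⟩
  have := (D.y_pos_dvd S.two S.n4).1
  rw [hy] at this
  exact (mul_pos_iff_of_pos_left (by
    exact_mod_cast Nat.mul_pos (Nat.card_pos (α := B)) (Nat.card_pos (α := C)))).1 this

/-- the order of the group and of the centralizer of an involution -/
theorem order (hG : ¬ IsMulCommutative G) :
    (Nat.card G : ℤ) = Nat.card A * (D.ch 1 * (D.ch 1 + D.δ)) ∧ D.ch t = 0 ∧
      (Nat.card (centralizer ({t} : Set G)) : ℤ) = D.ch 1 := by
  obtain ⟨m, hm⟩ : Nat.card A * (D.ch 1 * (D.ch 1 + D.δ)) ∣ (Nat.card G : ℤ) :=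
    ((S.cop_nx D).mul_right (S.cop_ny D)).mul_dvd (Int.natCast_dvd_natCast.2 A.card_subgroup_dvd_card)
      ((S.cop_xy D).mul_dvd (D.x_dvd S.two S.n4) (D.y_pos_dvd S.two S.n4).2)
  have f := D.order_formula S.two S.n4
  have x0 := D.x_pos S.two S.n4
  have y0 := (D.y_pos_dvd S.two S.n4).1
  have n5 : (5 : ℤ) ≤ Nat.card A := by exact_mod_cast S.nA
  have p9 : (9 : ℤ) ≤ Nat.card B := by exact_mod_cast S.nine
  have q9 : (9 : ℤ) ≤ Nat.card C := by exact_mod_cast S.symm.nine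
  have d0 := sub_pos.2 (D.ch_lt S.two S.n4 S.two.inv.ne)
  have f1 : m * (D.ch 1 - D.ch t) ^ 2 = (Nat.card (centralizer ({t} : Set G)) : ℤ) ^ 2 :=
    mul_left_cancel₀ (a := Nat.card A * (D.ch 1 * (D.ch 1 + D.δ))) (by positivity)
      (by rw [← f, hm]; ring)
  obtain ⟨s, hs⟩ := (Int.pow_dvd_pow_iff two_ne_zero).1 (Dvd.intro_left m f1)
  rw [mul_comm] at hs
  obtain rfl : m = s ^ 2 := mul_right_cancel₀ (pow_pos d0 2).ne' (by rw [f1, hs]; ring)
  have c0 : (0 : ℤ) < Nat.card (centralizer ({t} : Set G)) := by exact_mod_cast Nat.card_pos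
  have s0 : 0 < s := (mul_pos_iff_of_pos_right d0).1 (hs ▸ c0)
  obtain ⟨y, yp, hy⟩ := S.exists_y D
  have col := D.col S.two S.n4 (not_mem_X_of_sq S.two.inv.odd S.two.inv.sq)
  have cc := S.cop_cent S.two.inv.sq S.two.inv.ne
  have cd : (Nat.card (centralizer ({t} : Set G)) : ℤ) ∣ D.ch 1 * y * s ^ 2 := by
    refine cc.dvd_of_dvd_mul_left ?_
    rw [show (Nat.card A : ℤ) * (Nat.card B * Nat.card C) * (D.ch 1 * y * s ^ 2) = Nat.card G by
      rw [hm, hy]; ring]
    exact Int.natCast_dvd_natCast.2 (card_subgroup_dvd_card _)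
  rw [hs] at col cd cc
  obtain rfl : s = 1 := by
    by_contra hne
    refine num_big n5 (by exact_mod_cast S.two.inv.odd) p9 q9 (by exact_mod_cast S.hB.mod_four S.eB)
      (by exact_mod_cast S.hC.mod_four S.eC) (by exact_mod_cast S.sum22) D.hδ hy yp
      (D.n_dvd S.two S.n4) (IsCoprime.mul_left (Nat.isCoprime_iff_coprime.2 S.copAB.symm)
        (Nat.isCoprime_iff_coprime.2 S.symm.copAB.symm)) (Nat.isCoprime_iff_coprime.2 S.copBC)
      ?_ ?_ (S.hB.dvd_sub S.eB (by rw [hm, hy]; ring)) (S.hC.dvd_sub S.eC (by rw [hm, hy]; ring))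
      d0 cd (D.four_dvd S.two S.n4 hG) col ?_ (S.pc D) (by omega)
    · have h : (Nat.card G : ℤ) ≤ 3 * Nat.card A ^ 2 * Nat.card B ^ 2 * Nat.card C ^ 2 := by
        exact_mod_cast S.ord
      refine le_of_mul_le_mul_left (a := (Nat.card A * (Nat.card B * Nat.card C) : ℤ)) ?_
        (mul_pos (by omega) (mul_pos (by omega) (by omega)))
      rw [hm, hy] at h; linarith
    · have h := S.two.ssc.dvd_sub S.two.idx (M := D.ch 1 * (D.ch 1 + D.δ) * s ^ 2) (by rw [hm]; ring)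
      obtain ⟨k, hk⟩ := D.n_dvd S.two S.n4
      have h2 : IsCoprime (Nat.card A : ℤ) 2 := by
        obtain ⟨m, hm⟩ := S.two.inv.odd
        exact ⟨1, -m, by rw [hm]; push_cast; ring⟩
      refine h2.dvd_of_dvd_mul_left ?_
      have := dvd_sub h (dvd_mul_right (Nat.card A : ℤ) (k * (D.ch 1 + 2 * D.δ) * s ^ 2))
      convert this using 1
      push_cast
      linear_combination -(D.ch 1 + 2 * D.δ) * s ^ 2 * hk - 2 * s ^ 2 * D.δ_sq
    · exact S.two.inv.trace_le (Irr.isChar D.χ_irr) (D.χ_eq S.two S.n4 t) (by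
        have := S.two.ssc.sum_val fun a ha a1 => D.ch_X S.two S.n4 (mem_X ha a1)
        simp only [D.χ_eq S.two S.n4]
        exact_mod_cast this)
  rw [one_mul] at col cc hs
  have cd' : D.ch 1 - D.ch t ∣ D.ch 1 * (D.ch 1 + D.δ) := by
    rw [one_mul, one_pow, mul_one] at cd
    rw [hy, mul_comm _ y, ← mul_assoc]; exact cd.mul_right _
  rcases num_trace n5 D.hδ d0 cd' col with e | e
  · exact ⟨by rw [hm]; ring, e, by rw [hs, e, sub_zero]⟩
  · rw [e, sub_neg_eq_add, hy] at cc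
    have := Int.isUnit_iff.1 (cc.isUnit_of_dvd' (x := (Nat.card B : ℤ)) ⟨Nat.card C * y, by ring⟩
      ⟨Nat.card A * Nat.card C, by ring⟩)
    omega

end Sys

end CL.SCS
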