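import Mathlib
import Cfsg.Agent.INV.SCS.Sys
import Cfsg.Agent.CHAR.BrauerChar

/-! Self-centralization systems of type `(2, 4, 4)`: the prime graph and the sign. -/

set_option autoImplicit false
open Cfsg CL.PF CL.Char CL.Odd Subgroup
open scoped Classical ComplexConjugate

namespace CL.SCS

variable {G : Type*} [Group G] [Finite G]

/-- an irreducible character whose degree is a Hall divisor of the group order vanishes on
elements of order not prime to the degree -/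
theorem vanish_of_cop {ψ : G → ℂ} (hψ : ψ ∈ Irr (⊤ : Subgroup G)) {x m : ℤ} (hx : ψ 1 = x)
    (hm : (Nat.card G : ℤ) = x * m) (hc : IsCoprime x m) {r : ℕ} (hr : r.Prime) (hd : (r : ℤ) ∣ x)
    {g : G} (hg : r ∣ orderOf g) : ψ g = 0 := by
  obtain ⟨n, hn, e⟩ := Irr.exists_pos_one hψ
  have e1 : charDegree ψ = n := by simp [charDegree, e]
  rw [hx] at e
  obtain rfl : x = n := by exact_mod_cast e
  refine (mem_Irr_top.1 hψ).eq_zero_of_defect_zero (k := n.factorization r) hr (fun h => ?_)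
    (e1 ▸ Nat.ordProj_dvd n r) hg
  refine Nat.pow_succ_factorization_not_dvd hn.ne' hr (Int.natCast_dvd_natCast.1 ?_)
  have h1 : ((r ^ (n.factorization r + 1) : ℕ) : ℤ) ∣ n * m := hm ▸ Int.natCast_dvd_natCast.2 h
  refine IsCoprime.dvd_of_dvd_mul_right ?_ h1
  push_cast
  exact (hc.of_isCoprime_of_dvd_left hd).pow_left

theorem dvd_card_of_conj (S : Finset G) (hS : ∀ g ∈ S, ∀ u, IsConj g u → u ∈ S) {d : ℕ}
    (hd : ∀ g ∈ S, d ∣ (centralizer ({g} : Set G)).index) : d ∣ S.card := by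
  rw [Finset.card_eq_sum_card_fiberwise (f := ConjClasses.mk) (t := S.image ConjClasses.mk)
    fun g hg => Finset.mem_image_of_mem _ hg]
  refine Finset.dvd_sum fun c hc => ?_
  obtain ⟨g, hg, rfl⟩ := Finset.mem_image.1 hc
  refine (hd g hg).trans (dvd_of_eq ?_)
  rw [← card_class]
  congr 1
  ext u
  simp only [Finset.mem_filter, mem_fs, Set.mem_setOf_eq, ConjClasses.mk_eq_mk_iff_isConj]
  exact ⟨fun h => ⟨hS g hg u h, h.symm⟩, fun h => h.2.symm⟩

theorem exists_prime_comm {g : G} {r : ℕ} (hr : r.Prime)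
    (hd : r ∣ Nat.card (centralizer ({g} : Set G))) {s : ℕ} (hs : s.Prime) (hg : s ∣ orderOf g)
    (hne : r ≠ s) : ∃ c : G, r ∣ orderOf c ∧ s ∣ orderOf c := by
  have := Fact.mk hr
  obtain ⟨c, hc⟩ := exists_prime_orderOf_dvd_card' r hd
  have h1 : orderOf (c : G) = r := by rw [orderOf_coe, hc]
  have h2 : orderOf (g ^ (orderOf g / s)) = s := orderOf_pow_orderOf_div (orderOf_pos g).ne' hg
  have h3 : Commute (c : G) (g ^ (orderOf g / s)) :=
    Commute.pow_right (mem_centralizer_singleton_iff.1 c.2) _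
  refine ⟨c * g ^ (orderOf g / s), ?_⟩
  rw [h3.orderOf_mul_eq_mul_orderOf_of_coprime (by rw [h1, h2]; exact (Nat.coprime_primes hr hs).2 hne),
    h1, h2]
  exact ⟨dvd_mul_right _ _, dvd_mul_left _ _⟩

theorem not_dvd_of_cop {a b : ℤ} (h : IsCoprime a b) {r : ℕ} (hr : r.Prime) (ha : (r : ℤ) ∣ a)
    (hb : (r : ℤ) ∣ b) : False := by
  have := Int.isUnit_iff.1 (h.isUnit_of_dvd' ha hb)
  have := hr.two_le
  omega

namespace Sys
variable {A B C : Subgroup G} {t : G} (S : Sys A B C t) [IsSimpleGroup G] (D : Dat A)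
  (hG : ¬ IsMulCommutative G)
include S hG

theorem van_x {r : ℕ} (hr : r.Prime) (hd : (r : ℤ) ∣ D.ch 1) {g : G} (hg : r ∣ orderOf g) :
    D.ch g = 0 := by
  have := vanish_of_cop D.χ_irr (D.χ_eq S.two S.n4 1) (m := Nat.card A * (D.ch 1 + D.δ))
    (by rw [(S.order D hG).1]; ring) ((S.cop_nx D).symm.mul_right (S.cop_xy D)) hr hd hg
  rw [D.χ_eq S.two S.n4] at this
  exact_mod_cast this

theorem van_y {r : ℕ} (hr : r.Prime) (hd : (r : ℤ) ∣ D.ch 1 + D.δ) {g : G} (hg : r ∣ orderOf g) :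
    D.ch g = -D.δ := by
  obtain ⟨l, -, hl, -⟩ := exists_two_classes S.two.comm S.n4
  have := vanish_of_cop (D.θ_irr l hl) (D.θ_eq_ch S.two S.n4 hl fun e => X_ne_one e rfl)
    (m := Nat.card A * D.ch 1) (by rw [(S.order D hG).1]; ring)
    ((S.cop_ny D).symm.mul_right (S.cop_xy D).symm) hr hd hg
  rw [D.θ_eq_ch S.two S.n4 hl fun e => not_dvd_of_cop (S.cop_ny D) hr
    (Int.natCast_dvd_natCast.2 (hg.trans (orderOf_dvd_of_mem_X e))) hd] at this
  have : D.ch g + D.δ = 0 := by exact_mod_cast this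
  omega

theorem no_mix {r s : ℕ} (hr : r.Prime) (hs : s.Prime) (hx : (r : ℤ) ∣ D.ch 1)
    (hy : (s : ℤ) ∣ D.ch 1 + D.δ) {g : G} (h1 : r ∣ orderOf g) (h2 : s ∣ orderOf g) : False := by
  have := S.van_x D hG hr hx h1
  have := S.van_y D hG hs hy h2
  have := D.hδ
  omega

theorem cent_cop_y {r : ℕ} (hr : r.Prime) (hx : (r : ℤ) ∣ D.ch 1) {g : G} (hg : r ∣ orderOf g) :
    IsCoprime (Nat.card (centralizer ({g} : Set G)) : ℤ) (D.ch 1 + D.δ) := by
  rw [Int.isCoprime_iff_nat_coprime]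
  refine Nat.coprime_of_dvd fun s hs h1 h2 => ?_
  have h3 := Int.natCast_dvd.2 h2
  obtain ⟨c, a, b⟩ := exists_prime_comm hs (by simpa using h1) hr hg
    fun e => not_dvd_of_cop (S.cop_xy D) hs (e ▸ hx) h3
  exact S.no_mix D hG hr hs hx h3 b a

theorem cent_cop_x {r : ℕ} (hr : r.Prime) (hy : (r : ℤ) ∣ D.ch 1 + D.δ) {g : G}
    (hg : r ∣ orderOf g) : IsCoprime (Nat.card (centralizer ({g} : Set G)) : ℤ) (D.ch 1) := by
  rw [Int.isCoprime_iff_nat_coprime]
  refine Nat.coprime_of_dvd fun s hs h1 h2 => ?_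
  have h3 := Int.natCast_dvd.2 h2
  obtain ⟨c, a, b⟩ := exists_prime_comm hs (by simpa using h1) hr hg
    fun e => not_dvd_of_cop (S.cop_xy D) hs h3 (e ▸ hy)
  exact S.no_mix D hG hs hr h3 hy a b

theorem rest {y : ℤ} (hy : D.ch 1 + D.δ = Nat.card B * Nat.card C * y) {g : G}
    (hg : g ∈ Rest A B C) :
    D.ch g = 0 ∨ (D.ch g = -D.δ ∧ (Nat.card (centralizer ({g} : Set G)) : ℤ) ∣ y) := by
  obtain ⟨g1, ga, gb, gc⟩ := hg
  obtain ⟨r, hr, hd⟩ := Nat.exists_prime_and_dvd (mt orderOf_eq_one_iff.1 g1)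
  have ca := Nat.isCoprime_iff_coprime.2 (S.two.ssc.coprime_cent g1 ga)
  have cb := Nat.isCoprime_iff_coprime.2 (S.hB.coprime_cent g1 gb)
  have cc := Nat.isCoprime_iff_coprime.2 (S.hC.coprime_cent g1 gc)
  have h1 : (r : ℤ) ∣ Nat.card (centralizer ({g} : Set G)) := Int.natCast_dvd_natCast.2
    (hd.trans (orderOf_dvd_natCard _ (mem_centralizer_singleton_iff.2 rfl)))
  have h2 : (Nat.card (centralizer ({g} : Set G)) : ℤ) ∣ D.ch 1 * (D.ch 1 + D.δ) := by
    refine ca.dvd_of_dvd_mul_left ?_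
    rw [← (S.order D hG).1]
    exact Int.natCast_dvd_natCast.2 (card_subgroup_dvd_card _)
  rcases (Nat.prime_iff_prime_int.1 hr).dvd_or_dvd (h1.trans h2) with h | h
  · exact Or.inl (S.van_x D hG hr h hd)
  · refine Or.inr ⟨S.van_y D hG hr h hd, (cb.mul_right cc).dvd_of_dvd_mul_left ?_⟩
    rw [← hy]
    exact (S.cent_cop_x D hG hr h hd).dvd_of_dvd_mul_left h2

theorem neg_aux (hlt : Nat.card B < Nat.card C) (hδ : D.δ = -1) : False := by
  have := Fintype.ofFinite G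
  obtain ⟨y, y0, hy⟩ := S.exists_y D
  obtain ⟨hord, ht, hc⟩ := S.order D hG
  obtain ⟨κ, hκ⟩ := D.n_dvd S.two S.n4
  have x0 := D.x_pos S.two S.n4
  have n5 : (5 : ℤ) ≤ Nat.card A := by exact_mod_cast S.nA
  have p9 : (9 : ℤ) ≤ Nat.card B := by exact_mod_cast S.nine
  have q9 : (9 : ℤ) ≤ Nat.card C := by exact_mod_cast S.symm.nine
  have hr := fun g hg => S.rest D hG hy (g := g) hg
  set T := (fs (Rest A B C)).filter fun g => D.ch g = 1 with hT
  have hTm : ∀ g ∈ T, (Nat.card (centralizer ({g} : Set G)) : ℤ) ∣ y := fun g hg => by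
    rw [hT, Finset.mem_filter, mem_fs] at hg
    exact ((hr g hg.1).resolve_left (by omega)).2
  obtain ⟨i, hi⟩ : Nat.card A * (D.ch 1 * (Nat.card B * Nat.card C)) ∣ (T.card : ℤ) := by
    rw [← Int.natAbs_dvd, Int.natCast_dvd_natCast]
    refine dvd_card_of_conj T (fun g hg u hu => ?_) fun g hg => ?_
    · rw [hT, Finset.mem_filter, mem_fs] at hg ⊢
      obtain ⟨⟨a, b, c, d⟩, e⟩ := hg
      exact ⟨⟨ne_of_isConj a hu, fun h => b (X_of_isConj h hu.symm), fun h => c (X_of_isConj h hu.symm),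
        fun h => d (X_of_isConj h hu.symm)⟩, by rw [D.ch_of_isConj S.two S.n4 hu, e]⟩
    · rw [← Int.natCast_dvd_natCast, Int.natAbs_dvd]
      obtain ⟨z, hz⟩ := hTm g hg
      have h1 : (Nat.card (centralizer ({g} : Set G)) : ℤ) * (centralizer ({g} : Set G)).index =
          Nat.card G := by exact_mod_cast card_mul_index _
      have c0 : (Nat.card (centralizer ({g} : Set G)) : ℤ) ≠ 0 := by exact_mod_cast Nat.card_pos.ne'
      exact ⟨z, mul_left_cancel₀ c0 (by rw [h1, hord, hy, hz]; ring)⟩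
  have hs : ∀ F : G → ℤ, ∑ g ∈ fs (Rest A B C), F g * D.ch g = ∑ g ∈ T, F g := fun F => by
    rw [hT, Finset.sum_filter]
    refine Finset.sum_congr rfl fun g hg => ?_
    rcases hr g (by simpa using hg) with h | ⟨h, -⟩ <;> simp [h, hδ]
  have vA := fun a (ha : a ∈ A) a1 => D.ch_X S.two S.n4 (mem_X ha a1)
  have vB := (S.main_B D).1
  have vC := (S.symm.main_B D).1
  have a0 : (Nat.card A : ℤ) ≠ 0 := by omega
  have b0 : (Nat.card B : ℤ) ≠ 0 := by omega
  have c0 : (Nat.card C : ℤ) ≠ 0 := by omega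
  have P0 : (0 : ℤ) < Nat.card B * Nat.card C := mul_pos (by omega) (by omega)
  have g0 : (0 : ℤ) < Nat.card G := by exact_mod_cast Nat.card_pos
  have i0 : 0 ≤ i := by
    have : (0 : ℤ) ≤ T.card := by positivity
    rw [hi] at this
    exact nonneg_of_mul_nonneg_right this (mul_pos (by omega) (mul_pos x0 P0))
  obtain ⟨s₁, s₂, s₃, e, e1, e2, e3⟩ := S.split D.ch (D.ch_conj S.two S.n4) vA vB vC
  have hs1 := hs fun _ => 1
  simp only [one_mul, Finset.sum_const, nsmul_eq_mul, mul_one] at hs1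
  rw [D.sum_ch S.two S.n4, hs1, hi] at e
  obtain ⟨r₁, r₂, r₃, f, f1, f2, f3⟩ := S.split (fun g => (ff t g : ℤ) * D.ch g)
    (fun k g => by simp only [ff_conj, D.ch_conj S.two S.n4])
    (fun a ha a1 => by rw [S.two.ssc.ff_of_isConj S.two.inv (IsConj.refl t) ha a1, vA a ha a1])
    (fun a ha a1 => by rw [S.ff_B D ha a1, vB a ha a1])
    (fun a ha a1 => by rw [S.symm.ff_B D ha a1, vC a ha a1])
  have f0 : ∑ g, (ff t g : ℤ) * D.ch g = 0 := by
    have := sum_ff_mul (t := t) D.χ_irr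
    simp only [D.χ_eq S.two S.n4, ht] at this
    simp only [Int.cast_zero, mul_zero, ne_eq, OfNat.ofNat_ne_zero, not_false_eq_true, zero_pow,
      zero_div] at this
    exact_mod_cast this
  have f4 : ((centralizer ({t} : Set G)).index : ℤ) * D.ch 1 = Nat.card G := by
    rw [← hc]; exact_mod_cast index_mul_card _
  simp only [f0, hs, ff_one S.two.inv.sq, f4] at f
  have t0 : 0 ≤ ∑ g ∈ T, (ff t g : ℤ) := by positivity
  have t1 : ∑ g ∈ T, (ff t g : ℤ) ≤ Nat.card G * i := by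
    refine (Finset.sum_le_card_nsmul T _ y fun g hg => ?_).trans (le_of_eq ?_)
    · exact (Int.ofNat_le.2 (ff_le S.two.inv.sq g)).trans (Int.le_of_dvd y0 (hTm g hg))
    · rw [nsmul_eq_mul, hi, hord, hy]; ring
  rw [hδ] at e1 e2 e3 f1 f2 f3 hy hκ
  have f1' : 2 * r₁ = -(Nat.card G * (Nat.card A - 1)) := mul_left_cancel₀ a0 (by linear_combination f1)
  have f2' : 4 * r₂ = Nat.card G * (Nat.card B - 1) := mul_left_cancel₀ b0 (by linear_combination f2)
  have f3' : 4 * r₃ = Nat.card G * (Nat.card C - 1) := mul_left_cancel₀ c0 (by linear_combination f3)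
  rw [hδ, hy] at hord
  have e1' : 2 * s₁ = -(D.ch 1 * (Nat.card B * Nat.card C * y) * (Nat.card A - 1)) :=
    mul_left_cancel₀ a0 (by rw [hord] at e1; linear_combination e1)
  have e2' : 4 * s₂ = Nat.card A * D.ch 1 * (Nat.card C * y) * (Nat.card B - 1) :=
    mul_left_cancel₀ b0 (by rw [hord] at e2; linear_combination e2)
  have e3' : 4 * s₃ = Nat.card A * D.ch 1 * (Nat.card B * y) * (Nat.card C - 1) :=
    mul_left_cancel₀ c0 (by rw [hord] at e3; linear_combination e3)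
  have h4 := D.four_dvd S.two S.n4 hG
  have pm : (Nat.card B : ℤ) % 4 = 1 := by exact_mod_cast S.hB.mod_four S.eB
  have qm : (Nat.card C : ℤ) % 4 = 1 := by exact_mod_cast S.hC.mod_four S.eC
  have k1 : κ * Nat.card A = Nat.card B * Nat.card C * y + 2 := by linear_combination hy - hκ
  refine num_neg (n := Nat.card A) (i := i) (κ := κ) p9 (by exact_mod_cast hlt) ?_ y0 i0 ?_ ?_ ?_ k1 ?_
  · have : (Nat.card B * Nat.card C * y) % 4 = y % 4 := by
      rw [Int.mul_emod, Int.mul_emod (Nat.card B), pm, qm]; simp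
    omega
  · refine le_of_mul_le_mul_left ?_ g0
    linarith
  · refine le_of_mul_le_mul_left ?_ g0
    linarith
  · refine mul_left_cancel₀ (mul_ne_zero a0 x0.ne') ?_
    linear_combination 4 * e + 2 * e1' + e2' + e3' - 2 * D.ch 1 * k1
  · have h : (Nat.card G : ℤ) ≤ 3 * Nat.card A ^ 2 * Nat.card B ^ 2 * Nat.card C ^ 2 := by
      exact_mod_cast S.ord
    rw [hord, show D.ch 1 = Nat.card B * Nat.card C * y + 1 by linarith] at h
    refine lt_of_mul_lt_mul_left (a := (Nat.card A * (Nat.card B * Nat.card C) ^ 2 : ℤ)) ?_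
      (by positivity)
    have : (0 : ℤ) < Nat.card A * (Nat.card B * Nat.card C * y) := mul_pos (by omega) (mul_pos P0 y0)
    linarith

theorem δ_eq : D.δ = 1 := by
  refine D.hδ.resolve_right fun h => ?_
  rcases lt_or_gt_of_ne S.neBC with e | e
  · exact S.neg_aux D hG e h
  · exact S.symm.neg_aux D hG e h

end Sys

end CL.SCS
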