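import Mathlib
import Cfsg.Agent.INV.SCS.Neg
import Cfsg.Agent.CHAR.QuasiElem
import Cfsg.Agent.FGS.CITZass

/-! Self-centralization systems of type `(2, 4, 4)`: identification with a Suzuki group. -/

set_option autoImplicit false
open Cfsg CL.PF CL.Char CL.Odd Subgroup
open scoped Classical ComplexConjugate

namespace CL.SCS

variable {G : Type*} [Group G] [Finite G]

/-- elements conjugating `g` into `H` -/
noncomputable def JJ (H : Subgroup G) (g : G) : Finset G := fs {k | k * g * k⁻¹ ∈ H}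

theorem mem_JJ {H : Subgroup G} {g k : G} : k ∈ JJ H g ↔ k * g * k⁻¹ ∈ H := by simp [JJ]

theorem ind_triv (H : Subgroup G) (g : G) :
    ind H ⊤ (triv H) g = (Nat.card H : ℂ)⁻¹ * (JJ H g).card := by
  rw [CF.ind_apply (triv_mem_CF H) (mem_top g)]
  simp only [triv_apply, Finset.sum_boole]
  congr 3
  ext k; simp [JJ]

/-- if the permutation character on the class of an involution `t = w²` is constant on `C(t)^#`,
then the centralizers of the non-identity elements of `C(t)` normalize `C(t)` -/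
theorem cent_le_normalizer {t w : G} (t2 : t * t = 1) (t1 : t ≠ 1) (hw : w * w = t)
    (hc : ∀ u, u * u = 1 → u ≠ 1 → IsConj u t) {N : ℕ}
    (hJ : ∀ g ∈ centralizer ({t} : Set G), g ≠ 1 → (JJ (centralizer ({t} : Set G)) g).card = N)
    {h : G} (hh : h ∈ centralizer ({t} : Set G)) (h1 : h ≠ 1) :
    centralizer ({h} : Set G) ≤ normalizer (centralizer ({t} : Set G) : Set G) := by
  set H := centralizer ({t} : Set G) with hH
  have tH : t ∈ H := mem_centralizer_singleton_iff.2 rfl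
  have wH : w ∈ H := mem_centralizer_singleton_iff.2 (by rw [← hw, mul_assoc])
  have eq : ∀ a ∈ H, a ≠ 1 → ∀ b ∈ H, b ≠ 1 → JJ H a ⊆ JJ H b → JJ H a = JJ H b :=
    fun a ha a1 b hb b1 hs => Finset.eq_of_subset_of_card_le hs (by rw [hJ a ha a1, hJ b hb b1])
  have pw : ∀ a ∈ H, ∀ j : ℕ, a ^ j ≠ 1 → JJ H a = JJ H (a ^ j) := fun a ha j hj =>
    eq a ha (fun e => hj (by rw [e, one_pow])) _ (H.pow_mem ha j) hj fun k hk => by
      rw [mem_JJ] at hk ⊢; rw [← conj_pow]; exact H.pow_mem hk j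
  have quo : ∀ a b : G, JJ H a = JJ H t → JJ H (a * b) = JJ H t → JJ H t ⊆ JJ H b :=
    fun a b e1 e2 k hk => by
      have h1 := mem_JJ.1 (e1 ▸ hk)
      have h2 := mem_JJ.1 (e2 ▸ hk)
      rw [mem_JJ, show k * b * k⁻¹ = (k * a * k⁻¹)⁻¹ * (k * (a * b) * k⁻¹) by group]
      exact H.mul_mem (H.inv_mem h1) h2
  have ew : JJ H w = JJ H t := by rw [pw w wH 2 (by rwa [sq, hw]), sq, hw]
  have c1 : ∀ u ∈ H, u * u = 1 → u ≠ 1 → JJ H t = JJ H u := fun u hu u2 u1 => by
    obtain ⟨k, hk⟩ := isConj_iff.1 (hc u u2 u1)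
    have h2 : k ∈ JJ H w := by
      rw [ew, mem_JJ, mem_centralizer_singleton_iff]
      nth_rewrite 2 3 [← hk]
      rw [conj_mul, conj_mul, mem_centralizer_singleton_iff.1 hu]
    rw [mem_JJ, mem_centralizer_singleton_iff, ← hk, conj_mul, conj_mul, mul_left_inj,
      mul_right_inj] at h2
    have h3 : (w * u) ^ 2 = t := by
      rw [Commute.mul_pow h2, sq, sq, hw, u2, mul_one]
    exact eq t tH t1 u hu u1 (quo w u ew (by rw [pw _ (H.mul_mem wH hu) 2 (by rwa [h3]), h3]))
  have c2 : ∀ a ∈ H, a ≠ 1 → JJ H t = JJ H a := fun a ha a1 => by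
    rcases Nat.even_or_odd (orderOf a) with ⟨j, hj⟩ | ho
    · have j0 : 0 < j := by have := orderOf_pos a; omega
      have h2 : a ^ j ≠ 1 := pow_ne_one_of_lt_orderOf j0.ne' (by omega)
      rw [pw a ha j h2]
      exact c1 _ (H.pow_mem ha j) (by rw [← pow_add, ← hj, pow_orderOf_eq_one]) h2
    · have h3 : (t * a) ^ orderOf a = t := by
        obtain ⟨j, hj⟩ := ho
        rw [Commute.mul_pow (mem_centralizer_singleton_iff.1 ha).symm, pow_orderOf_eq_one, hj,
          pow_succ, pow_mul, sq, t2, one_pow, one_mul, mul_one]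
      exact eq t tH t1 a ha a1 (quo t a rfl (by rw [pw _ (H.mul_mem tH ha) _ (by rwa [h3]), h3]))
  intro c hc
  refine mem_normalizer_fintype fun a ha => ?_
  by_cases a1 : a = 1
  · simpa [a1] using H.one_mem
  · refine mem_JJ.1 ?_
    rw [← c2 a ha a1, c2 h hh h1, mem_JJ, mem_centralizer_singleton_iff.1 hc, mul_inv_cancel_right]
    exact hh

namespace Sys
variable {A B C : Subgroup G} {t : G} (S : Sys A B C t) [IsSimpleGroup G] (D : Dat A)
  (hG : ¬ IsMulCommutative G)
include S hG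

theorem exists_prime {h : G} (hh : h ∈ centralizer ({t} : Set G)) (h1 : h ≠ 1) :
    ∃ r : ℕ, r.Prime ∧ (r : ℤ) ∣ D.ch 1 ∧ r ∣ orderOf h := by
  obtain ⟨r, hr, hd⟩ := Nat.exists_prime_and_dvd (mt orderOf_eq_one_iff.1 h1)
  refine ⟨r, hr, ?_, hd⟩
  rw [← (S.order D hG).2.2]
  exact Int.natCast_dvd_natCast.2 (hd.trans (orderOf_dvd_natCard _ hh))

theorem ch_cent {h : G} (hh : h ∈ centralizer ({t} : Set G)) (h1 : h ≠ 1) : D.ch h = 0 := by
  obtain ⟨r, hr, hx, hd⟩ := S.exists_prime D hG hh h1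
  exact S.van_x D hG hr hx hd

omit hG [IsSimpleGroup G] in
theorem not_X {h : G} (hh : h ∈ centralizer ({t} : Set G)) : h ∉ X A := fun e =>
  not_mem_X_of_sq S.two.inv.odd S.two.inv.sq (S.two.ssc.mem_X_of_comm e S.two.inv.ne
    (mem_centralizer_singleton_iff.1 hh).symm)

theorem ip_cent {ψ : G → ℂ} {i : ℤ} (h : ∀ g ∈ centralizer ({t} : Set G), ψ g = (D.ch g + i : ℤ)) :
    ip (centralizer ({t} : Set G)) (triv (centralizer ({t} : Set G))) ψ = (1 + i : ℤ) := by
  have c0 := card_ne_zero_complex (centralizer ({t} : Set G))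
  have hc : (D.ch 1 : ℂ) = Nat.card (centralizer ({t} : Set G)) := by
    exact_mod_cast (S.order D hG).2.2.symm
  rw [ip, Finset.sum_congr rfl (g := fun g => (if g = 1 then (D.ch 1 : ℂ) else 0) + i) fun g hg => by
    rw [mem_fs] at hg
    rw [triv_of_mem hg, h g hg, map_intCast, one_mul]
    split_ifs with e
    · simp [e]
    · simp [S.ch_cent D hG hg e]]
  rw [Finset.sum_add_distrib, Finset.sum_ite_eq', if_pos (by simpa using one_mem _), Finset.sum_const,
    card_fs_subgroup, hc]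
  field_simp
  simp [mul_add]

theorem perm_char : ind (centralizer ({t} : Set G)) ⊤ (triv (centralizer ({t} : Set G))) =
    triv ⊤ + D.χ + ∑ l ∈ Finset.univ.erase (1 : Dual A), D.θ l := by
  have hδ := S.δ_eq D hG
  have hm : ∀ l ∈ Finset.univ.erase (1 : Dual A), l ≠ 1 := fun l hl => Finset.ne_of_mem_erase hl
  have tr := triv_mem_Irr (⊤ : Subgroup G)
  rw [← sub_eq_zero]
  refine IsChar.eq_zero_of_one (H := ⊤) (isChar_iff_ip.2 ⟨sub_mem (ind_mem_CF _ _ _) (add_mem (add_mem
    (triv_mem_CF _) (Irr.cf D.χ_irr)) (Submodule.sum_mem _ fun l hl => Irr.cf (D.θ_irr l (hm l hl)))),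
    fun ψ hψ => ?_⟩) ?_
  · rw [ip_sub_left, ip_add_left, ip_add_left, ip_sum_left, Irr.ip_eq tr hψ, Irr.ip_eq D.χ_irr hψ,
      Finset.sum_congr rfl fun l hl => Irr.ip_eq (D.θ_irr l (hm l hl)) hψ]
    by_cases e1 : triv ⊤ = ψ
    · subst e1
      rw [ip_ind_left le_top _ (triv_mem_CF _), ip_congr _ (fun _ _ => rfl)
        (b' := triv (centralizer ({t} : Set G))) fun x hx => by rw [triv_of_mem hx, triv_of_mem (mem_top _)],
        ip_triv_triv, if_pos rfl, if_neg D.χ_ne, Finset.sum_eq_zero fun l hl => if_neg (D.θ_ne l (hm l hl))]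
      exact ⟨0, by simp⟩
    by_cases e2 : D.χ = ψ
    · subst e2
      rw [ip_ind_left le_top _ (Irr.cf hψ), S.ip_cent D hG (i := 0) fun g _ => by
        rw [D.χ_eq S.two S.n4, add_zero], if_neg e1, if_pos rfl,
        Finset.sum_eq_zero fun l hl => if_neg (D.θ_ne_χ l (hm l hl))]
      exact ⟨0, by simp⟩
    by_cases e3 : ∃ m, m ≠ 1 ∧ D.θ m = ψ
    · obtain ⟨m, m1, rfl⟩ := e3
      rw [ip_ind_left le_top _ (Irr.cf hψ), S.ip_cent D hG fun g hg =>
        D.θ_eq_ch S.two S.n4 m1 (S.not_X hg), if_neg e1, if_neg e2, Finset.sum_boole,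
        show (Finset.univ.erase (1 : Dual A)).filter (fun l => D.θ l = D.θ m) = {m, m⁻¹} by
          ext l
          simp only [Finset.mem_filter, Finset.mem_erase, Finset.mem_univ, and_true, Finset.mem_insert,
            Finset.mem_singleton]
          refine ⟨fun h => (D.θ_eq l h.1 m m1).1 h.2, fun h => ?_⟩
          have : l ≠ 1 := by rcases h with rfl | rfl <;> simpa using m1
          exact ⟨this, (D.θ_eq l this m m1).2 h⟩,
        Finset.card_pair (ne_inv S.two.comm S.two.inv.odd m1), hδ]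
      exact ⟨0, by norm_num⟩
    · rw [if_neg e1, if_neg e2, Finset.sum_eq_zero fun l hl => if_neg fun e => e3 ⟨l, hm l hl, e⟩]
      simpa using ((isChar_triv _).ind le_top).exists_nat_ip (Irr.isChar hψ)
  · obtain ⟨h1, -, h2⟩ := S.order D hG
    have h3 : (Nat.card (centralizer ({t} : Set G)) : ℤ) * (centralizer ({t} : Set G)).index =
        Nat.card G := by exact_mod_cast card_mul_index _
    have h4 : ((centralizer ({t} : Set G)).index : ℤ) = Nat.card A * (D.ch 1 + D.δ) :=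
      mul_left_cancel₀ (D.x_pos S.two S.n4).ne' (by rw [← h2, h3, h1, h2]; ring)
    have h5 : ((centralizer ({t} : Set G)).index : ℂ) = Nat.card A * (D.ch 1 + D.δ) := by
      exact_mod_cast h4
    rw [Pi.sub_apply, ind_one le_top, relIndex_top_right, h5, Pi.add_apply, Pi.add_apply,
      Finset.sum_apply, Finset.sum_congr rfl fun l hl => D.θ_eq_ch S.two S.n4 (hm l hl)
        fun e => X_ne_one e rfl, Finset.sum_const, Finset.card_erase_of_mem (Finset.mem_univ _),
      Finset.card_univ, card_dual S.two.comm, D.χ_eq S.two S.n4, triv_of_mem (one_mem _),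
      triv_of_mem (one_mem _), nsmul_eq_mul, Nat.cast_sub Nat.card_pos, hδ]
    push_cast; ring

include D in
theorem card_JJ {g : G} (hg : g ∈ centralizer ({t} : Set G)) (g1 : g ≠ 1) :
    (JJ (centralizer ({t} : Set G)) g).card = Nat.card (centralizer ({t} : Set G)) * Nat.card A := by
  have e := congrFun (S.perm_char D hG) g
  rw [ind_triv, Pi.add_apply, Pi.add_apply, Finset.sum_apply, Finset.sum_congr rfl fun l hl =>
    D.θ_eq_ch S.two S.n4 (Finset.ne_of_mem_erase hl) (S.not_X hg), Finset.sum_const,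
    Finset.card_erase_of_mem (Finset.mem_univ _), Finset.card_univ, card_dual S.two.comm,
    D.χ_eq S.two S.n4, triv_of_mem (mem_top _), nsmul_eq_mul, Nat.cast_sub Nat.card_pos, S.δ_eq D hG,
    S.ch_cent D hG hg g1, inv_mul_eq_iff_eq_mul₀ (card_ne_zero_complex _)] at e
  have : ((JJ (centralizer ({t} : Set G)) g).card : ℂ) =
      Nat.card (centralizer ({t} : Set G)) * Nat.card A := by rw [e]; push_cast; ring
  exact_mod_cast this

include D in
theorem exists_sqrt : ∃ w : G, w * w = t := by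
  obtain ⟨w, -, hw⟩ := S.hB.exists_four S.eB (by have := S.nB; omega)
  obtain ⟨k, hk⟩ := isConj_iff.1 (D.isConj S.two S.n4 hw.sq hw.ne)
  exact ⟨k * w * k⁻¹, by rw [conj_mul, hk]⟩

include D in
theorem isolated {h : G} (hh : h ∈ centralizer ({t} : Set G)) (h1 : h ≠ 1) :
    centralizer ({h} : Set G) ≤ centralizer ({t} : Set G) := fun c hc => by
  obtain ⟨w, hw⟩ := S.exists_sqrt D hG
  refine mem_of_coprime_relIndex le_rfl (cent_le_normalizer S.two.inv.sq S.two.inv.ne hw
    (fun u => D.isConj S.two S.n4) (fun g => S.card_JJ D hG) hh h1 hc) ?_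
  refine Nat.Coprime.of_dvd (relIndex_dvd_index_of_le le_normalizer) (orderOf_dvd_natCard _ hc) ?_
  obtain ⟨r, hr, hx, hd⟩ := S.exists_prime D hG hh h1
  obtain ⟨h3, -, h2⟩ := S.order D hG
  have h4 : (Nat.card (centralizer ({t} : Set G)) : ℤ) * (centralizer ({t} : Set G)).index =
      Nat.card G := by exact_mod_cast card_mul_index _
  have h5 : ((centralizer ({t} : Set G)).index : ℤ) = Nat.card A * (D.ch 1 + D.δ) :=
    mul_left_cancel₀ (D.x_pos S.two S.n4).ne' (by rw [← h2, h4, h3, h2]; ring)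
  rw [← Nat.isCoprime_iff_coprime, h5]
  exact ((Nat.isCoprime_iff_coprime.2 (S.two.ssc.coprime_cent h1 (S.not_X hh))).mul_right
    (S.cent_cop_y D hG hr hx hd)).symm

theorem isoSuzuki : Cfsg.Lie.IsoSuzuki G := by
  obtain ⟨D⟩ := S.two.exists_dat S.n4
  have ht : orderOf t = 2 := orderOf_eq_prime (by rw [sq, S.two.inv.sq]) S.two.inv.ne
  obtain ⟨-, h⟩ := CL.CIT.of_isolated hG (centralizer ({t} : Set G)) (fun e => by
      have := Finite.one_lt_card_iff_nontrivial.1 (by have := S.nA; omega : 1 < Nat.card A)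
      obtain ⟨a, a1⟩ := exists_ne (1 : A)
      exact S.not_X (e ▸ mem_top _) (mem_X a.2 (by simpa using a1)))
    ⟨t, mem_centralizer_singleton_iff.2 rfl, ht, le_rfl⟩ fun x => S.isolated D hG
  refine h.resolve_left ?_
  rintro ⟨F, _, _, n, hn, hF, ⟨e⟩⟩
  have : CharP F 2 := charP_of_card_eq_prime_pow hF
  have h := Cfsg.Agent.S2475.result (F := F) 2 (hF ▸ Nat.pow_le_pow_right two_pos hn)
  rw [← Spec.range_orderOf_congr e] at h
  obtain ⟨w, hw⟩ := S.exists_sqrt D hG
  have h4 : orderOf w = 2 ^ 2 := orderOf_eq_prime_pow (by rw [pow_one, sq, hw]; exact S.two.inv.ne)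
    (by rw [show 2 ^ (1 + 1) = 2 * 2 by rfl, pow_mul, sq w, hw, sq, S.two.inv.sq])
  have h1 := (Set.ext_iff.1 h 4).1 ⟨w, h4⟩
  have he : 2 ^ 2 ∣ 2 ^ n := pow_dvd_pow 2 hn
  have h4 : 4 ≤ 2 ^ n := Nat.pow_le_pow_right (n := 2) two_pos hn
  have hg1 : Nat.gcd 2 (2 ^ n - 1) = 1 := (Nat.coprime_two_left.2 (Nat.odd_iff.2 (by omega)))
  simp only [Set.mem_setOf_eq, hF, hg1, Nat.div_one] at h1
  omega

end Sys

end CL.SCS
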